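import Groth.Agent.Lib.AlgGerbe16.Space
import Groth.Agent.Lib.StAlg16.SubstackLift
import Groth.Agent.Lib.StAlg16.QCMor
import Groth.Agent.Lib.StAlg16.SourceLocal
import Groth.Agent.S0414

/-! A reduced stack with quasi-compact inertia has a dense open gerbe. -/

universe u

open CategoryTheory CategoryTheory.Functor CategoryTheory.Limits AlgebraicGeometry Opposite

set_option linter.style.haveILetI false
set_option linter.unusedSectionVars false
set_option backward.isDefEq.respectTransparency false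
set_option backward.isDefEq.respectTransparency.types false

namespace Groth.Agent.AlgGerbe16

open Groth.Agent.FC16 hiding overMap
open Groth.Agent.StAlg Groth.Agent.StAlg16 AlgSt

variable {S : Scheme.{u}}

/-- a property can be checked on smooth schemes covering the points -/
theorem with_of_smooth_family {𝒲 𝒳 : AlgSt.Cat S} {P : MorphismProperty (AlgSp.Sp S)} (hPb : PbP P)
    (hP : AlgSp.IsLocalOnBase AlgSp.IsFppfCover P) (h𝒲 : FibCat.IsFibGrpd 𝒲.p)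
    (h𝒳 : IsAlgStack Scheme.fppfPrecoverage 𝒳) {f : 𝒲 ⥤ᵇ 𝒳} (hf : AlgSt.RepByAlgSp1 f)
    (hcov : ∀ p : Points 𝒳, ∃ (V : Over S) (v : FibCat.overCat V ⥤ᵇ 𝒳) (t : ↥V.left),
      AlgSt.RepByAlgSpWith (AlgSp.LocP @Smooth) v ∧ Points.ofChart v t = p ∧
        AlgSt.RepByAlgSpWith P (FibCat.fpFst v f)) : AlgSt.RepByAlgSpWith P f := fun T y => by
  have gX := h𝒳.isStack.1
  have key : ∀ t : ↥T.left, ∃ (W : Over S) (h : W ⟶ T) (V : Over S) (v : FibCat.overCat V ⥤ᵇ 𝒳)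
      (a : FibCat.overCat W ⥤ᵇ FibCat.overCat V), Smooth h.left ∧ t ∈ Set.range h.left ∧
      Nonempty (BasedFunctor.comp (AlgSt.overMap h) y ≅ BasedFunctor.comp a v) ∧
        AlgSt.RepByAlgSpWith P (FibCat.fpFst v f) := fun t => by
    obtain ⟨V, v, t', hv, ht, hPv⟩ := hcov (Points.ofChart y t)
    have hA := StAlg.isAlgStack_fp h𝒳.isStack h𝒳.diag (isAlgStack_overCat T) (isAlgStack_overCat V) y v
    obtain ⟨W, c, hc, hcs⟩ := hA.atlas
    obtain ⟨h, ⟨j⟩⟩ := exists_overMap_iso (BasedFunctor.comp c (FibCat.fpFst y v))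
    have hsm : Smooth h.left := of_with_locP_overMap h (with_of_iso j
      (with_comp goodP_locP (overCat_isFibGrpd W) hA.isStack.1 hc (with_fpFst y hv)))
    obtain ⟨z, hz₁, -⟩ := exists_fp_point (overCat_isFibGrpd V) gX (overCat_isFibGrpd T) v y
      (Points.mk (chartPt T t)) (Points.mk (chartPt V t')) (by rw [← ofChart_eq, ← ofChart_eq, ht])
    obtain ⟨w, hw⟩ := isSurjective_of_with hA.isStack.1 hcs z
    refine ⟨W, h, V, v, BasedFunctor.comp c (FibCat.fpSnd y v), hsm, ⟨ptOf w, ?_⟩,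
      ⟨wrIso j.symm y ≪≫ wlIso c (FibCat.fpIso y v)⟩, hPv⟩
    have e : Points.map (AlgSt.overMap h) w = Points.mk (chartPt T t) := by
      rw [← map_eq_map_of_iso j, map_comp_apply, hw, hz₁]
    have e' := congrArg ptOf e
    rwa [ptOf_map_overMap, ptOf_chartPt] at e'
  choose W h V v a hsm ht hi hPv using key
  refine repOf_of_cover hPb hP h𝒲 gX hf y W h ⟨fun t => ?_, fun x => ?_⟩ fun t => ?_
  · haveI := hsm t
    exact ⟨(locP_yon_iff (h t)).2 inferInstance, (locP_yon_iff (h t)).2 inferInstance⟩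
  · obtain ⟨t, rfl⟩ := (AlgSp.Points.schemeHomeo T).surjective x
    obtain ⟨s, hs⟩ := ht t
    exact ⟨t, AlgSp.Points.schemeHomeo _ s,
      (AlgSp.Points.map_yon_map_apply (h t) s).trans (congrArg (AlgSp.Points.schemeHomeo T) hs)⟩
  · obtain ⟨i⟩ := hi t
    exact repOf_left i (repOf_of_equiv (pasteL_isEquivOver (a t) (v t) f) (Iso.refl _) (hPv t (W t) (a t)))

variable {𝒳 : AlgSt.Cat S} {P : MorphismProperty Scheme.{u}} [AlgSpace.EtaleLocal P]

/-- over an open where the chart is good, so is the base change -/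
theorem with_restrict {𝒲 : AlgSt.Cat S} (h𝒳 : IsAlgStack Scheme.fppfPrecoverage 𝒳)
    (h𝒲 : FibCat.IsFibGrpd 𝒲.p) {f : 𝒲 ⥤ᵇ 𝒳} (hf : AlgSt.RepByAlgSp1 f) {W : Over S}
    (w : FibCat.overCat W ⥤ᵇ 𝒳) {U' : Over S} {c' : FibCat.overCat U' ⥤ᵇ FibCat.fp w f}
    (hc' : AlgSt.RepByAlgSpWith (AlgSp.LocP @Smooth) c') (hcs : AlgSt.RepByAlgSpWith AlgSp.IsSurjectiveMor c')
    {g : U' ⟶ W} (j : BasedFunctor.comp c' (FibCat.fpFst w f) ≅ AlgSt.overMap g) {V₀ : Over S} (i : V₀ ⟶ W)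
    (hP : P (pullback.fst i g).left)
    (hsrc : ∀ ⦃X Y Z : AlgSp.Sp S⦄, AlgSp.IsAlgSpace X → AlgSp.IsAlgSpace Y → AlgSp.IsAlgSpace Z →
      ∀ (b : X ⟶ Y) (a : Y ⟶ Z),
        (∀ k, ![AlgSp.LocP @Flat, AlgSp.LocP @LocallyOfFinitePresentation, AlgSp.IsSurjectiveMor] k b) →
          AlgSp.LocP P (b ≫ a) → AlgSp.LocP P a) :
    AlgSt.RepByAlgSpWith (AlgSp.LocP P) (FibCat.fpFst (BasedFunctor.comp (AlgSt.overMap i) w) f) := by
  have gX := h𝒳.isStack.1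
  let a := FibCat.fpFst w f
  let i' := AlgSt.overMap i
  have gA := fp_isFibGrpd (overCat_isFibGrpd W) h𝒲 gX w f
  have gB := fp_isFibGrpd (overCat_isFibGrpd V₀) gA (overCat_isFibGrpd W) i' a
  haveI := idFun_full (𝒳 := FibCat.overCat W)
  haveI := idFun_faithful (𝒳 := FibCat.overCat W)
  let E : FibCat.overCat (pullback i g) ⥤ᵇ FibCat.fp i' (BasedFunctor.comp c' a) :=
    BasedFunctor.comp (overPullback (pullback.condition (f := i) (g := g)))
      (fpMap (F := i') (G := AlgSt.overMap g) (F' := i') (G' := BasedFunctor.comp c' a)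
        (a := BasedFunctor.id _) (b := BasedFunctor.id _) (s := BasedFunctor.id _) (Iso.refl _) j)
  have hE : FibCat.IsEquivOver E := isEquivOver_comp (overPullback_isEquivOver (IsPullback.of_hasPullback i g))
    (fpMap_isEquivOver _ _ isEquivOver_id isEquivOver_id)
  have h1 : AlgSt.RepByAlgSpWith (AlgSp.LocP P) (FibCat.fpFst i' (BasedFunctor.comp c' a)) :=
    (with_congr (f := FibCat.fpFst i' (BasedFunctor.comp c' a)) (f' := AlgSt.overMap (pullback.fst i g))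
      (a := E) (b := BasedFunctor.id _) hE isEquivOver_id (Iso.refl _)).2 (with_locP_overMap _ hP)
  have h2 : AlgSt.RepByAlgSpWith (AlgSp.LocP P)
      (BasedFunctor.comp (FibCat.fpFst (FibCat.fpSnd i' a) c') (FibCat.fpFst i' a)) :=
    (with_congr (f := FibCat.fpFst i' (BasedFunctor.comp c' a))
      (f' := BasedFunctor.comp (FibCat.fpFst (FibCat.fpSnd i' a) c') (FibCat.fpFst i' a))
      (a := pasteR i' a c') (b := BasedFunctor.id _) (pasteR_isEquivOver _ _ _) isEquivOver_id (Iso.refl _)).1 h1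
  have hrr : ∀ n, AlgSt.RepByAlgSpWith
      (![AlgSp.LocP @Flat, AlgSp.LocP @LocallyOfFinitePresentation, AlgSp.IsSurjectiveMor] n)
      (FibCat.fpFst (FibCat.fpSnd i' a) c') := fun n => by
    fin_cases n
    · exact with_fpFst _ (with_locP_mono smooth_le_flat hc')
    · exact with_fpFst _ (with_locP_mono smooth_le_lfp hc')
    · exact with_fpFst _ hcs
  have h3 : AlgSt.RepByAlgSpWith (AlgSp.LocP P) (FibCat.fpFst i' a) :=
    with_of_comp_of_source GerbAbs.Chart.pbP_locP' _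
      (fun n => by fin_cases n <;> first | exact goodP_locP | exact goodP_surjective)
      hsrc (fp_isFibGrpd gB (overCat_isFibGrpd U') gA _ _) gB (overCat_isFibGrpd V₀)
      (rep1_fpFst i' (rep1_fpFst w hf)) (repByAlgSp1_of_with (hrr 0)) hrr h2
  exact (with_congr (f := FibCat.fpFst (BasedFunctor.comp i' w) f) (f' := FibCat.fpFst i' a)
    (a := pasteL i' w f) (b := BasedFunctor.id _) (pasteL_isEquivOver _ _ _) isEquivOver_id (Iso.refl _)).2 h3

section Incl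

variable {Q : 𝒳.obj → Prop}

/-- `I_Q ⟶ Q ×_𝒳 I_𝒳` -/
noncomputable def inertiaIncl (Q : 𝒳.obj → Prop) : FibCat.inertia (FibCat.toSelf (fullSub 𝒳 Q)) ⥤ᵇ
    FibCat.fp (AlgSt.subIncl 𝒳 Q) (FibCat.inertiaToBase (FibCat.toSelf 𝒳)) :=
  FibCat.fpLift (FibCat.inertiaToBase (FibCat.toSelf (fullSub 𝒳 Q)))
    { toFunctor :=
        { obj := fun z => ⟨z.pt.obj, (AlgSt.subIncl 𝒳 Q).toFunctor.mapIso z.aut, z.map_aut⟩
          map := fun φ => ⟨φ.hom.hom, congrArg (fun t => t.hom) φ.comm⟩ }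
      w := rfl }
    (Iso.refl _)

theorem inertiaIncl_isEquivOver (h𝒳 : FibCat.IsFibGrpd 𝒳.p) : FibCat.IsEquivOver (inertiaIncl Q) := by
  let E := inertiaIncl Q
  haveI : E.toFunctor.Faithful := ⟨fun {a b φ ψ} e =>
    FibCat.InertiaObj.hom_ext (congrArg (fun t => t.hom.fst) e)⟩
  haveI : E.toFunctor.Full := ⟨fun {a b} φ => by
    have w : φ.hom.fst.hom ≫ 𝟙 _ = 𝟙 _ ≫ φ.hom.snd.hom := fp_w φ
    have w' : φ.hom.fst.hom = φ.hom.snd.hom := (Category.comp_id _).symm.trans (w.trans (Category.id_comp _))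
    refine ⟨⟨φ.hom.fst, ObjectProperty.hom_ext _ ?_⟩, fp_hom_ext rfl (FibCat.InertiaObj.hom_ext w')⟩
    have hc := φ.hom.snd.comm
    rw [← w'] at hc
    exact hc⟩
  refine isEquivOver_of E fun η => ?_
  haveI hi := iso_lift η (U := 𝒳.p.obj η.obj.fst.obj) rfl
  haveI : 𝒳.p.IsHomLift (𝟙 (𝒳.p.obj η.obj.fst.obj)) η.obj.snd.aut.hom := by
    have e : 𝒳.p.obj η.obj.snd.pt = 𝒳.p.obj η.obj.fst.obj := snd_p η
    exact IsHomLift.of_fac' _ _ _ e e (by
      rw [show 𝒳.p.map η.obj.snd.aut.hom = 𝟙 _ from η.obj.snd.map_aut]; simp)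
  let α : η.obj.fst.obj ≅ η.obj.fst.obj := η.obj.iso ≪≫ η.obj.snd.aut ≪≫ η.obj.iso.symm
  haveI hl : 𝒳.p.IsHomLift (𝟙 (𝒳.p.obj η.obj.fst.obj)) α.hom := by
    simpa [α] using (inferInstance : 𝒳.p.IsHomLift (𝟙 (𝒳.p.obj η.obj.fst.obj) ≫ 𝟙 _ ≫ 𝟙 _)
      (η.obj.iso.hom ≫ η.obj.snd.aut.hom ≫ η.obj.iso.inv))
  refine ⟨⟨η.obj.fst, ObjectProperty.isoMk _ α, ?_⟩,
    fpIsoMk (Iso.refl _) ⟨⟨η.obj.iso.hom, ?_⟩, ⟨η.obj.iso.inv, ?_⟩,
      FibCat.InertiaObj.hom_ext η.obj.iso.hom_inv_id, FibCat.InertiaObj.hom_ext η.obj.iso.inv_hom_id⟩ ?_,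
    @isHomLift_of_fst _ _ _ _ _ _ _ _ _ _ _ _ _ (IsHomLift.id rfl)⟩
  · show 𝒳.p.map α.hom = 𝟙 _
    simpa using IsHomLift.fac' 𝒳.p (𝟙 (𝒳.p.obj η.obj.fst.obj)) α.hom
  · show α.hom ≫ η.obj.iso.hom = η.obj.iso.hom ≫ η.obj.snd.aut.hom
    simp [α]
  · show η.obj.snd.aut.hom ≫ η.obj.iso.inv = η.obj.iso.inv ≫ α.hom
    simp [α]
  · show 𝟙 _ ≫ η.obj.iso.hom = 𝟙 _ ≫ η.obj.iso.hom
    rfl

theorem with_inertia_sub (h𝒳 : FibCat.IsFibGrpd 𝒳.p) {𝒵 : AlgSt.Cat S} (v : 𝒵 ⥤ᵇ fullSub 𝒳 Q)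
    {P : MorphismProperty (AlgSp.Sp S)}
    (h : AlgSt.RepByAlgSpWith P
      (FibCat.fpFst (BasedFunctor.comp v (AlgSt.subIncl 𝒳 Q)) (FibCat.inertiaToBase (FibCat.toSelf 𝒳)))) :
    AlgSt.RepByAlgSpWith P (FibCat.fpFst v (FibCat.inertiaToBase (FibCat.toSelf (fullSub 𝒳 Q)))) := by
  let I := FibCat.inertiaToBase (FibCat.toSelf 𝒳)
  let I' := FibCat.fpFst (AlgSt.subIncl 𝒳 Q) I
  have h1 : AlgSt.RepByAlgSpWith P (FibCat.fpFst v I') :=
    (with_congr (f := FibCat.fpFst (BasedFunctor.comp v (AlgSt.subIncl 𝒳 Q)) I) (f' := FibCat.fpFst v I')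
      (a := pasteL v (AlgSt.subIncl 𝒳 Q) I) (b := BasedFunctor.id _) (pasteL_isEquivOver _ _ _) isEquivOver_id
      (Iso.refl _)).1 h
  haveI := idFun_full (𝒳 := fullSub 𝒳 Q)
  haveI := idFun_faithful (𝒳 := fullSub 𝒳 Q)
  exact (with_congr (f := FibCat.fpFst v I') (f' := FibCat.fpFst v (FibCat.inertiaToBase (FibCat.toSelf (fullSub 𝒳 Q))))
    (a := fpMap (F := v) (G := FibCat.inertiaToBase (FibCat.toSelf (fullSub 𝒳 Q))) (F' := v) (G' := I')
      (a := BasedFunctor.id _) (b := inertiaIncl Q) (s := BasedFunctor.id _) (Iso.refl _) (Iso.refl _))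
    (b := BasedFunctor.id _) (fpMap_isEquivOver _ _ isEquivOver_id (inertiaIncl_isEquivOver h𝒳)) isEquivOver_id
    (Iso.refl _)).1 h1

end Incl

/-- points of charts over which the inertia is flat and locally of finite presentation -/
def FlatLocus (𝒳 : AlgSt.Cat S) : Set (Points 𝒳) :=
  {p | ∃ (V : Over S) (v : FibCat.overCat V ⥤ᵇ 𝒳) (t : ↥V.left),
    AlgSt.RepByAlgSpWith (AlgSp.LocP @Smooth) v ∧ Points.ofChart v t = p ∧
      AlgSt.RepByAlgSpWith (AlgSp.LocP @Flat) (FibCat.fpFst v (FibCat.inertiaToBase (FibCat.toSelf 𝒳))) ∧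
      AlgSt.RepByAlgSpWith (AlgSp.LocP @LocallyOfFinitePresentation)
        (FibCat.fpFst v (FibCat.inertiaToBase (FibCat.toSelf 𝒳)))}

theorem isOpen_flatLocus (h𝒳 : IsAlgStack Scheme.fppfPrecoverage 𝒳) : IsOpen (FlatLocus 𝒳) := by
  refine isOpen_iff_forall_mem_open.2 fun p hp => ?_
  obtain ⟨V, v, t, hv, rfl, h₁, h₂⟩ := hp
  exact ⟨Set.range (Points.ofChart v), fun q ⟨s, hs⟩ => ⟨V, v, s, hv, hs, h₁, h₂⟩,
    (isOpenMap_ofChart h𝒳.isStack.1 (with_locP_mono smooth_le_flat hv) (with_locP_mono smooth_le_lfp hv)).isOpen_range, ⟨t, rfl⟩⟩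

theorem isAlgStack_inertia_self (h𝒳 : IsAlgStack Scheme.fppfPrecoverage 𝒳) :
    IsAlgStack Scheme.fppfPrecoverage (FibCat.inertia (FibCat.toSelf 𝒳)) := by
  haveI := FC16.isFibered h𝒳.isStack.1
  haveI : (FibCat.selfOver (Over S)).p.IsFibered := FC16.isFibered selfOver_isFibGrpd
  obtain ⟨G, hG, -, -⟩ := exists_inverse (inertiaDiag_isEquivOver (FibCat.toSelf 𝒳))
  have hP := StAlg.isAlgStack_prod h𝒳 h𝒳
  exact StAlg.isAlgStack_of_equiv hG (StAlg.isAlgStack_fp hP.isStack hP.diag h𝒳 h𝒳 _ _)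

/-- the flat locus is dense -/
theorem dense_flatLocus (h𝒳 : IsAlgStack Scheme.fppfPrecoverage 𝒳)
    (hred : AlgSt.SmoothLocally (fun T => IsReduced T) 𝒳)
    (hI : AlgSt.IsQuasiCompactMor Scheme.fppfPrecoverage (FibCat.inertiaToBase (FibCat.toSelf 𝒳))) :
    Dense (FlatLocus 𝒳) := by
  rw [dense_iff_inter_open]
  rintro T hT ⟨p, hp⟩
  obtain ⟨U, x, hx, hxs⟩ := h𝒳.atlas
  obtain ⟨t, ht⟩ := surjective_ofChart h𝒳.isStack.1 hxs p
  obtain ⟨Wo, hW, htW, -⟩ := exists_isAffineOpen_mem_and_subset (X := U.left) (x := t) (U := ⊤) trivial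
  let W : Over S := Over.mk (Wo.ι ≫ U.hom)
  let m : W ⟶ U := Over.homMk Wo.ι rfl
  haveI : IsAffine W.left := hW
  haveI : Smooth m.left := inferInstanceAs (Smooth Wo.ι)
  let w := BasedFunctor.comp (AlgSt.overMap m) x
  have hw : AlgSt.RepByAlgSpWith (AlgSp.LocP @Smooth) w :=
    with_comp goodP_locP (overCat_isFibGrpd W) (overCat_isFibGrpd U) (with_locP_overMap m inferInstance) hx
  haveI := hred W w hw
  let I := FibCat.inertiaToBase (FibCat.toSelf 𝒳)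
  have hlft : AlgSt.RepByAlgSpWith (AlgSp.LocP @LocallyOfFiniteType) I :=
    with_inertiaToBase h𝒳.isStack.1 selfOver_isFibGrpd (StAlg.lft_diag_toSelf h𝒳)
  obtain ⟨U', c', hU', hc', hcs⟩ := hI (FibCat.overCat W) (isAlgStack_overCat W) (isQuasiCompact_overCat W) w
  obtain ⟨g, ⟨j⟩⟩ := exists_overMap_iso (BasedFunctor.comp c' (FibCat.fpFst w I))
  haveI : IsAffine U'.left := hU'
  haveI : LocallyOfFiniteType g.left := of_with_locP_overMap g (with_of_iso j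
    (with_comp goodP_locP (overCat_isFibGrpd U')
      (fp_isFibGrpd (overCat_isFibGrpd W) (isAlgStack_inertia_self h𝒳).isStack.1 h𝒳.isStack.1 w I)
      (with_locP_mono StAlg.smooth_le_lft hc') (with_fpFst w hlft)))
  obtain ⟨Vo, hVd, hVf, hVp⟩ := Groth.Agent.S0414.result g.left
  let V₀ : Over S := Over.mk (Vo.ι ≫ W.hom)
  let i : V₀ ⟶ W := Over.homMk Vo.ι rfl
  have sq := (IsPullback.of_hasPullback i g).map (Over.forget S)
  let e := sq.isoIsPullback _ _ (isPullback_morphismRestrict g.left Vo)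
  have he : e.hom ≫ (g.left ∣_ Vo) = (pullback.fst i g).left := sq.isoIsPullback_hom_fst _ _ _
  have hf₁ : Flat (pullback.fst i g).left := by rw [← he]; infer_instance
  have hf₂ : LocallyOfFinitePresentation (pullback.fst i g).left := by rw [← he]; infer_instance
  let v := BasedFunctor.comp (AlgSt.overMap i) w
  have hv₁ := with_restrict (P := @Flat) h𝒳 (isAlgStack_inertia_self h𝒳).isStack.1 (repByAlgSp1_of_with hlft)
    w hc' hcs j i hf₁ (GerbAbs.Chart.goodQ_flat (𝒳 := 𝒳)).source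
  have hv₂ := with_restrict (P := @LocallyOfFinitePresentation) h𝒳 (isAlgStack_inertia_self h𝒳).isStack.1
    (repByAlgSp1_of_with hlft) w hc' hcs j i hf₂ (GerbAbs.Chart.goodQ_lfp (𝒳 := 𝒳)).source
  haveI : Smooth i.left := inferInstanceAs (Smooth Vo.ι)
  have hv : AlgSt.RepByAlgSpWith (AlgSp.LocP @Smooth) v :=
    with_comp goodP_locP (overCat_isFibGrpd V₀) (overCat_isFibGrpd W) (with_locP_overMap i inferInstance) hw
  have hopen : IsOpen ((Points.ofChart w) ⁻¹' T) := hT.preimage (continuous_ofChart h𝒳 w)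
  obtain ⟨s, hsT, hsV⟩ := hVd.inter_open_nonempty _ hopen ⟨(⟨t, htW⟩ : ↥W.left), by
    show Points.ofChart w _ ∈ T
    rw [ofChart_overMap]
    exact (ht.symm ▸ hp :)⟩
  exact ⟨Points.ofChart w s, hsT, V₀, v, ⟨s, hsV⟩, hv, by rw [ofChart_overMap]; rfl, hv₁, hv₂⟩

/-- the open gerbe -/
theorem exists_dense_gerbe (h𝒳 : IsAlgStack Scheme.fppfPrecoverage 𝒳)
    (hred : AlgSt.SmoothLocally (fun T => IsReduced T) 𝒳)
    (hI : AlgSt.IsQuasiCompactMor Scheme.fppfPrecoverage (FibCat.inertiaToBase (FibCat.toSelf 𝒳))) :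
    ∃ Q : 𝒳.obj → Prop, AlgSt.IsOpenSubstack 𝒳 Q Scheme.fppfPrecoverage ∧
      Dense (Set.range (AlgSt.Points.map (AlgSt.subIncl 𝒳 Q))) ∧
      Gerb.IsAlgGerbe Scheme.fppfPrecoverage (AlgSt.fullSub 𝒳 Q) := by
  have hO := isOpen_flatLocus h𝒳
  let Q := Qsub (FlatLocus 𝒳)
  have hQ : IsAlgStack Scheme.fppfPrecoverage (fullSub 𝒳 Q) := isAlgStack_fullSub_qsub hO h𝒳
  refine ⟨Q, isOpenSubstack_qsub hO h𝒳, by rw [range_map_subIncl_qsub]; exact dense_flatLocus h𝒳 hred hI, ?_⟩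
  have gI := (isAlgStack_inertia_self hQ).isStack.1
  have hrep : AlgSt.RepByAlgSp1 (FibCat.inertiaToBase (FibCat.toSelf (fullSub 𝒳 Q))) :=
    repByAlgSp1_of_with (with_inertiaToBase hQ.isStack.1 selfOver_isFibGrpd (StAlg.lft_diag_toSelf hQ))
  have hcov : ∀ p : Points (fullSub 𝒳 Q), ∃ (V : Over S) (v : FibCat.overCat V ⥤ᵇ fullSub 𝒳 Q) (t : ↥V.left),
      AlgSt.RepByAlgSpWith (AlgSp.LocP @Smooth) v ∧ Points.ofChart v t = p ∧
        AlgSt.RepByAlgSpWith (AlgSp.LocP @Flat)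
          (FibCat.fpFst v (FibCat.inertiaToBase (FibCat.toSelf (fullSub 𝒳 Q)))) ∧
        AlgSt.RepByAlgSpWith (AlgSp.LocP @LocallyOfFinitePresentation)
          (FibCat.fpFst v (FibCat.inertiaToBase (FibCat.toSelf (fullSub 𝒳 Q)))) := fun p => by
    have hp : Points.map (AlgSt.subIncl 𝒳 Q) p ∈ FlatLocus 𝒳 :=
      (range_map_subIncl_qsub (FlatLocus 𝒳)).subset ⟨p, rfl⟩
    obtain ⟨V, v, t, hv, ht, h₁, h₂⟩ := hp
    have hw : ∀ a, Q (v.obj a) := fun a => qsub_range_map (overCat_isFibGrpd V) h𝒳.isStack.1 v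
      (fun q ⟨o, ho⟩ => by
        rw [← ho, ← mk_chartPt_ptOf o, ← ofChart_eq]
        exact ⟨V, v, ptOf o, hv, rfl, h₁, h₂⟩) a
    refine ⟨V, liftSub v hw, t, with_liftSub v hw hv,
      injective_map_subIncl h𝒳.isStack.1 (fun φ hb => qsub_of_hom φ hb) ?_,
      with_inertia_sub h𝒳.isStack.1 (liftSub v hw) h₁, with_inertia_sub h𝒳.isStack.1 (liftSub v hw) h₂⟩
    rw [← ht, ofChart_eq, ofChart_eq, ← map_comp_apply]
    rfl
  have hfl := with_of_smooth_family GerbAbs.Chart.pbP_locP' isLocalOnBase_fppf_locP_flat gI hQ hrep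
    fun p => by obtain ⟨V, v, t, a, b, c, -⟩ := hcov p; exact ⟨V, v, t, a, b, c⟩
  have hfp := with_of_smooth_family GerbAbs.Chart.pbP_locP' isLocalOnBase_fppf_locP_lfp gI hQ hrep
    fun p => by obtain ⟨V, v, t, a, b, -, c⟩ := hcov p; exact ⟨V, v, t, a, b, c⟩
  have h₁ := (locQ_iff_with isSmoothLocalST_flat GerbAbs.Chart.pbP_locP' isLocalOnBase_fppf_locP_flat
    (isAlgStack_inertia_self hQ) hQ hrep).2 hfl
  have h₂ := (locQ_iff_with isSmoothLocalST_lfp GerbAbs.Chart.pbP_locP' isLocalOnBase_fppf_locP_lfp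
    (isAlgStack_inertia_self hQ) hQ hrep).2 hfp
  exact ⟨⟨_, isAlgSpace_clsSp hQ.isStack.1 hQ h₁ h₂⟩, π hQ.isStack.1, isGerbeOver hQ.isStack.1⟩

end Groth.Agent.AlgGerbe16
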