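import Groth.Agent.Lib.GerbAbs16.Apps
import Groth.Agent.Lib.StAlg16.QCMor

/-! The inertia over a sheaf of sets is the absolute inertia. -/

universe u

open CategoryTheory CategoryTheory.Functor CategoryTheory.Limits AlgebraicGeometry Opposite

set_option linter.style.haveILetI false
set_option linter.unusedSectionVars false
set_option backward.isDefEq.respectTransparency false
set_option backward.isDefEq.respectTransparency.types false

namespace Groth.Agent.AlgGerbe16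

open Groth.Agent.FC16 hiding overMap
open Groth.Agent.StAlg Groth.Agent.StAlg16 AlgSt

variable {S : Scheme.{u}} {𝒳 : AlgSt.Cat S} {X : AlgSp.Sp S} (π : 𝒳 ⥤ᵇ AlgSt.ofSp X)

theorem map_eq_id {x : 𝒳.obj} (α : x ⟶ x) : (FibCat.toSelf 𝒳).map α = 𝟙 _ ↔ π.map α = 𝟙 _ := by
  constructor
  · intro h
    refine Stk.EltObj.hom_ext ?_
    have h2 := Functor.congr_hom π.w α
    simp only [Functor.comp_map, Stk.EltObj.forget_map] at h2
    refine h2.trans ?_
    rw [show 𝒳.p.map α = 𝟙 _ from h]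
    simp
  · intro h
    show 𝒳.p.map α = 𝟙 _
    have h2 := Functor.congr_hom π.w α
    simp only [Functor.comp_map, Stk.EltObj.forget_map] at h2
    rw [h] at h2
    simpa [eq_comm] using (congrArg (fun t => eqToHom (π.w_obj x).symm ≫ t ≫ eqToHom (π.w_obj x)) h2).symm

/-- `(x, α) ↦ (x, α)` -/
noncomputable def inertiaCast : FibCat.inertia π ⥤ᵇ FibCat.inertia (FibCat.toSelf 𝒳) where
  toFunctor :=
    { obj := fun z => ⟨z.pt, z.aut, (map_eq_id π z.aut.hom).2 z.map_aut⟩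
      map := fun φ => ⟨φ.hom, φ.comm⟩ }
  w := rfl

theorem inertiaCast_isEquivOver : FibCat.IsEquivOver (inertiaCast π) := by
  haveI : (inertiaCast π).toFunctor.Faithful := ⟨fun {a b φ ψ} h =>
    FibCat.InertiaObj.hom_ext (congrArg FibCat.InertiaObj.Hom.hom h :)⟩
  haveI : (inertiaCast π).toFunctor.Full := ⟨fun {a b} φ => ⟨⟨φ.hom, φ.comm⟩, rfl⟩⟩
  exact isEquivOver_of _ fun η => ⟨⟨η.pt, η.aut, (map_eq_id π η.aut.hom).1 η.map_aut⟩, Iso.refl _, IsHomLift.id rfl⟩

theorem locQ_inertia_of_isGerbeOver (h𝒳 : IsAlgStack Scheme.fppfPrecoverage 𝒳) (hX : AlgSp.IsAlgSpace X)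
    (hπ : Gerb.IsGerbeOver (QuotSh.J Scheme.fppfPrecoverage S) π) :
    AlgSt.LocQ (AlgSp.LocP @Flat) (FibCat.inertiaToBase (FibCat.toSelf 𝒳)) ∧
      AlgSt.LocQ (AlgSp.LocP @LocallyOfFinitePresentation) (FibCat.inertiaToBase (FibCat.toSelf 𝒳)) := by
  have hM := isAlgStack_ofSp hX
  have gX := h𝒳.isStack.1
  have cast : ∀ {P : MorphismProperty (AlgSp.Sp S)}, AlgSt.RepByAlgSpWith P (FibCat.diag π) →
      AlgSt.RepByAlgSpWith P (FibCat.inertiaToBase (FibCat.toSelf 𝒳)) := fun {P} hP =>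
    (with_congr (f := FibCat.inertiaToBase (FibCat.toSelf 𝒳)) (f' := FibCat.inertiaToBase π)
      (a := inertiaCast π) (b := BasedFunctor.id _) (inertiaCast_isEquivOver π) isEquivOver_id (Iso.refl _)).2
      (with_inertiaToBase gX hM.isStack.1 hP)
  have hI := StAlg.isAlgStack_of_equiv (inertiaCast_isEquivOver π) (GerbAbs.Chart.isAlgStack_inertia h𝒳 hM π)
  exact (GerbAbs.Chart.triple_of_with hI h𝒳 (cast (GerbAbs.Chart.with_diag_flat h𝒳 hM hπ))
    (cast (GerbAbs.Chart.with_diag_lfp h𝒳 hM hπ)) (cast (GerbAbs.Chart.with_diag_surjective h𝒳 hM hπ))).2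

end Groth.Agent.AlgGerbe16
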