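import Groth.Agent.Lib.GerbAbs16.Basic
import Groth.Agent.Lib.StAlg.Psh
import Groth.Prelude.Def_AlgSt2
import Groth.Prelude.Def_StGerb
import Mathlib.CategoryTheory.Sites.LocallySurjective

/-! A stack in groupoids is a gerbe over the sheafification of its presheaf of isomorphism classes. -/

universe u

open CategoryTheory CategoryTheory.Functor CategoryTheory.Limits AlgebraicGeometry Opposite

set_option linter.style.haveILetI false
set_option linter.unusedSectionVars false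
set_option backward.isDefEq.respectTransparency false
set_option backward.isDefEq.respectTransparency.types false

namespace Groth.Agent.AlgGerbe16

open Groth.Agent.FC16

variable {S : Scheme.{u}} {𝒳 : AlgSt.Cat S}

/-- isomorphism in a fibre -/
def setoid (𝒳 : AlgSt.Cat S) (T : Over S) : Setoid {x : 𝒳.obj // 𝒳.p.obj x = T} :=
  ⟨fun a b => ∃ e : a.1 ≅ b.1, 𝒳.p.IsHomLift (𝟙 T) e.hom,
    fun a => ⟨Iso.refl _, IsHomLift.id a.2⟩,
    fun {a b} ⟨e, he⟩ => ⟨e.symm, haveI := he; inferInstanceAs (𝒳.p.IsHomLift (𝟙 T) e.inv)⟩,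
    fun {a b c} ⟨e, he⟩ ⟨e', he'⟩ => ⟨e ≪≫ e', haveI := he; haveI := he'
      inferInstanceAs (𝒳.p.IsHomLift (𝟙 T) (e.hom ≫ e'.hom))⟩⟩

variable (h : FibCat.IsFibGrpd 𝒳.p)

/-- pullback of objects of the fibres -/
noncomputable def pb {T T' : Over S} (f : T' ⟶ T) (a : {x : 𝒳.obj // 𝒳.p.obj x = T}) :
    {x : 𝒳.obj // 𝒳.p.obj x = T'} :=
  haveI := FC16.isFibered h
  ⟨IsPreFibered.pullbackObj a.2 f, IsPreFibered.pullbackObj_proj a.2 f⟩

theorem rel_pb {T T' : Over S} (f : T' ⟶ T) (a : {x : 𝒳.obj // 𝒳.p.obj x = T'})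
    (b : {x : 𝒳.obj // 𝒳.p.obj x = T}) (φ : a.1 ⟶ b.1) [𝒳.p.IsHomLift f φ] :
    (setoid 𝒳 T').r (pb h f b) a := by
  haveI := FC16.isFibered h
  haveI := Groth.Agent.FC16.isStronglyCartesian h f φ
  exact ⟨(IsCartesian.domainUniqueUpToIso 𝒳.p f φ (IsPreFibered.pullbackMap b.2 f)),
    IsCartesian.map_isHomLift 𝒳.p f φ (IsPreFibered.pullbackMap b.2 f)⟩

theorem pb_rel {T T' : Over S} (f : T' ⟶ T) (a b : {x : 𝒳.obj // 𝒳.p.obj x = T}) (hab : (setoid 𝒳 T).r a b) :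
    (setoid 𝒳 T').r (pb h f a) (pb h f b) := by
  haveI := FC16.isFibered h
  obtain ⟨e, he⟩ := hab
  haveI := he
  haveI : 𝒳.p.IsHomLift f (IsPreFibered.pullbackMap a.2 f ≫ e.hom) := by
    simpa using (inferInstance : 𝒳.p.IsHomLift (f ≫ 𝟙 T) (IsPreFibered.pullbackMap a.2 f ≫ e.hom))
  exact (setoid 𝒳 T').iseqv.symm (rel_pb h f (pb h f a) b (IsPreFibered.pullbackMap a.2 f ≫ e.hom))

/-- the presheaf of isomorphism classes -/
noncomputable def clsPsh : (Over S)ᵒᵖ ⥤ Type (u + 1) where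
  obj T := Quotient (setoid 𝒳 T.unop)
  map {T T'} f := ↾(Quotient.map (sa := setoid 𝒳 T.unop) (sb := setoid 𝒳 T'.unop) (pb h f.unop)
    (fun a b hab => pb_rel h f.unop a b hab))
  map_id T := by
    ext q
    induction q using Quotient.inductionOn with | _ a =>
    haveI : 𝒳.p.IsHomLift (𝟙 T.unop) (𝟙 a.1) := IsHomLift.id a.2
    exact Quotient.sound (rel_pb h (𝟙 T.unop) a a (𝟙 a.1))
  map_comp {T T' T''} f g := by
    ext q
    induction q using Quotient.inductionOn with | _ a =>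
    haveI := FC16.isFibered h
    haveI : 𝒳.p.IsHomLift (g.unop ≫ f.unop)
        (IsPreFibered.pullbackMap (pb h f.unop a).2 g.unop ≫ IsPreFibered.pullbackMap a.2 f.unop) :=
      inferInstance
    exact Quotient.sound (rel_pb h (g.unop ≫ f.unop) (pb h g.unop (pb h f.unop a)) a
      (IsPreFibered.pullbackMap (pb h f.unop a).2 g.unop ≫ IsPreFibered.pullbackMap a.2 f.unop))

/-- the sheaf of isomorphism classes -/
noncomputable def clsSp : AlgSp.Sp S := (presheafToSheaf (AlgSp.J S) _).obj (clsPsh h)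

/-- classes as sections of the sheaf -/
noncomputable abbrev η : clsPsh h ⟶ (clsSp h).obj := toSheafify (AlgSp.J S) (clsPsh h)

/-- the class of an object of a fibre -/
noncomputable def cls {T : Over S} (x : 𝒳.obj) (hx : 𝒳.p.obj x = T) : (clsSp h).obj.obj (op T) :=
  (η h).app (op T) (Quotient.mk (setoid 𝒳 T) ⟨x, hx⟩)

theorem cls_map {T T' : Over S} (f : T' ⟶ T) {x' x : 𝒳.obj} (hx' : 𝒳.p.obj x' = T') (hx : 𝒳.p.obj x = T)
    (φ : x' ⟶ x) [𝒳.p.IsHomLift f φ] : (clsSp h).obj.map f.op (cls h x hx) = cls h x' hx' := by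
  rw [cls, ← NatTrans.naturality_apply]
  exact congrArg ((η h).app (op T')) (Quotient.sound (rel_pb h f ⟨x', hx'⟩ ⟨x, hx⟩ φ))

/-- the canonical functor -/
noncomputable def π : 𝒳 ⥤ᵇ AlgSt.ofSp (clsSp h) where
  toFunctor :=
    { obj := fun x => ⟨𝒳.p.obj x, cls h x rfl⟩
      map := fun {a b} φ => ⟨𝒳.p.map φ, cls_map h (𝒳.p.map φ) rfl rfl φ⟩
      map_id := fun a => Stk.EltObj.hom_ext (𝒳.p.map_id a)
      map_comp := fun φ ψ => Stk.EltObj.hom_ext (𝒳.p.map_comp φ ψ) }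
  w := rfl

theorem locSurjObj : Gerb.LocSurjObj (AlgSp.J S) (π h) := by
  intro y
  refine ⟨Presheaf.imageSieve (η h) y.sec, Presheaf.imageSieve_mem _ _ _, fun V f hf => ?_⟩
  obtain ⟨t, ht⟩ := hf
  induction t using Quotient.inductionOn with | _ x =>
  obtain ⟨x, (rfl : 𝒳.p.obj x = V)⟩ := x
  let g : (π h).obj x ⟶ y := ⟨f, ht.symm⟩
  exact ⟨x, g, IsHomLift.of_fac' _ _ _ rfl rfl (by simp [g, AlgSt.ofSp, π])⟩

theorem exists_local_iso {T : Over S} {x x' : 𝒳.obj} (hx : 𝒳.p.obj x = T) (hx' : 𝒳.p.obj x' = T)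
    (e : cls h x hx = cls h x' hx') : ∃ R ∈ AlgSp.J S T, ∀ ⦃V : Over S⦄ (f : V ⟶ T), R f →
      ∃ (x₀ : 𝒳.obj) (φ : x₀ ⟶ x) (ψ : x₀ ⟶ x'), 𝒳.p.IsHomLift f φ ∧ 𝒳.p.IsHomLift f ψ := by
  haveI := FC16.isFibered h
  refine ⟨_, Presheaf.equalizerSieve_mem (AlgSp.J S) (η h) _ _ e, fun V f hf => ?_⟩
  obtain ⟨i, hi⟩ := Quotient.exact (s := setoid 𝒳 V) hf
  haveI := hi
  refine ⟨(pb h f ⟨x, hx⟩).1, IsPreFibered.pullbackMap hx f, i.hom ≫ IsPreFibered.pullbackMap hx' f,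
    inferInstance, ?_⟩
  simpa using (inferInstance : 𝒳.p.IsHomLift (𝟙 V ≫ f) (i.hom ≫ IsPreFibered.pullbackMap hx' f))

theorem locSurjHom : Gerb.LocSurjHom (AlgSp.J S) (π h) := by
  intro x x' b hb
  haveI := hb
  have h₁ : 𝒳.p.obj x' = 𝒳.p.obj x := IsHomLift.codomain_eq (Stk.EltObj.forget (clsSp h).obj) (𝟙 _) b
  have h₂ : b.hom = eqToHom h₁.symm := by
    simpa using IsHomLift.fac' (Stk.EltObj.forget (clsSp h).obj) (𝟙 (𝒳.p.obj x)) b
  haveI : 𝒳.p.IsHomLift (eqToHom h₁.symm) (𝟙 x') := IsHomLift.of_fac' _ _ _ h₁ rfl (by simp)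
  have e : cls h x rfl = cls h x' h₁ := by
    rw [← cls_map h (eqToHom h₁.symm) h₁ rfl (𝟙 x'), ← h₂]
    exact b.map_sec.symm
  obtain ⟨R, hR, hR'⟩ := exists_local_iso h rfl h₁ e
  refine ⟨R, hR, fun V f hf => ?_⟩
  obtain ⟨x₀, φ, ψ, hφ, hψ⟩ := hR' f hf
  refine ⟨x₀, φ, ψ, hφ, hψ, Stk.EltObj.hom_ext ?_⟩
  haveI := hφ; haveI := hψ
  change 𝒳.p.map φ ≫ b.hom = 𝒳.p.map ψ
  rw [h₂, IsHomLift.fac' 𝒳.p f φ, IsHomLift.fac' 𝒳.p f ψ]
  simp

theorem isGerbeOver : Gerb.IsGerbeOver (QuotSh.J Scheme.fppfPrecoverage S) (π h) :=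
  ⟨locSurjObj h, locSurjHom h⟩

end Groth.Agent.AlgGerbe16
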