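import Groth.Agent.Lib.ResGerb16.FppfImage
import Groth.Agent.Lib.GerbAbs16.Absolute
import Groth.Agent.Lib.GerbAbs16.OfCover
import Groth.Agent.Lib.GerbAbs16.Apps

/-! With flat inertia, pairs of points of a chart with isomorphic images have a flat kernel pair. -/

universe u

open CategoryTheory CategoryTheory.Functor CategoryTheory.Limits AlgebraicGeometry Opposite

set_option linter.style.haveILetI false
set_option linter.unusedSectionVars false
set_option backward.isDefEq.respectTransparency false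
set_option backward.isDefEq.respectTransparency.types false

namespace Groth.Agent.AlgGerbe16

open Groth.Agent.FC16 hiding overMap
open Groth.Agent.StAlg Groth.Agent.StAlg16 AlgSt

variable {S : Scheme.{u}} {𝒳 : AlgSt.Cat S} {P : MorphismProperty (AlgSp.Sp S)}

/-- base changes of a morphism have what its kernel pair has on their kernel pairs -/
theorem with_kernel {𝒴 𝒵 : AlgSt.Cat S} {Δ : 𝒳 ⥤ᵇ 𝒴} (hD : AlgSt.RepByAlgSpWith P (FibCat.fpFst Δ Δ))
    (y : 𝒵 ⥤ᵇ 𝒴) : AlgSt.RepByAlgSpWith P (FibCat.fpFst (FibCat.fpFst y Δ) (FibCat.fpFst y Δ)) := by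
  let a := FibCat.fpFst y Δ
  let σ := FibCat.fpSnd y Δ
  haveI := idFun_full (𝒳 := 𝒴)
  haveI := idFun_faithful (𝒳 := 𝒴)
  have h1 : AlgSt.RepByAlgSpWith P (FibCat.fpFst (BasedFunctor.comp σ Δ) Δ) :=
    (with_congr (f := FibCat.fpFst (BasedFunctor.comp σ Δ) Δ) (f' := FibCat.fpFst σ (FibCat.fpFst Δ Δ))
      (a := pasteL σ Δ Δ) (b := BasedFunctor.id _) (pasteL_isEquivOver _ _ _) isEquivOver_id (Iso.refl _)).2
      (with_fpFst σ hD)
  have h2 : AlgSt.RepByAlgSpWith P (FibCat.fpFst (BasedFunctor.comp a y) Δ) :=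
    (with_congr (f := FibCat.fpFst (BasedFunctor.comp σ Δ) Δ) (f' := FibCat.fpFst (BasedFunctor.comp a y) Δ)
      (a := fpMap (F := BasedFunctor.comp a y) (G := Δ) (F' := BasedFunctor.comp σ Δ) (G' := Δ)
        (a := BasedFunctor.id _) (b := BasedFunctor.id _) (s := BasedFunctor.id _) (FibCat.fpIso y Δ).symm (Iso.refl _))
      (b := BasedFunctor.id _) (fpMap_isEquivOver _ _ isEquivOver_id isEquivOver_id) isEquivOver_id (Iso.refl _)).1 h1
  exact (with_congr (f := FibCat.fpFst (BasedFunctor.comp a y) Δ) (f' := FibCat.fpFst a a)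
    (a := pasteL a y Δ) (b := BasedFunctor.id _) (pasteL_isEquivOver _ _ _) isEquivOver_id (Iso.refl _)).1 h2

/-- composing with a cover -/
theorem with_kernel_comp (hP : GoodP P) {𝒜 𝒵 : AlgSt.Cat S} (g𝒜 : FibCat.IsFibGrpd 𝒜.p)
    (g𝒳 : FibCat.IsFibGrpd 𝒳.p) (g𝒵 : FibCat.IsFibGrpd 𝒵.p)
    {d : 𝒜 ⥤ᵇ 𝒳} {a : 𝒳 ⥤ᵇ 𝒵} (hd : AlgSt.RepByAlgSpWith P d)
    (ha : AlgSt.RepByAlgSpWith P (FibCat.fpFst a a)) :
    AlgSt.RepByAlgSpWith P (FibCat.fpFst (BasedFunctor.comp d a) (BasedFunctor.comp d a)) := by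
  let da := BasedFunctor.comp d a
  have gda : FibCat.IsFibGrpd (FibCat.fp da a).p := fp_isFibGrpd g𝒜 g𝒳 g𝒵 _ _
  have h1 : AlgSt.RepByAlgSpWith P (FibCat.fpFst da a) :=
    (with_congr (f := FibCat.fpFst da a) (f' := FibCat.fpFst d (FibCat.fpFst a a))
      (a := pasteL d a a) (b := BasedFunctor.id _) (pasteL_isEquivOver _ _ _) isEquivOver_id (Iso.refl _)).2
      (with_fpFst d ha)
  exact (with_congr (f := FibCat.fpFst da da)
    (f' := BasedFunctor.comp (FibCat.fpFst (FibCat.fpSnd da a) d) (FibCat.fpFst da a))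
    (a := pasteR da a d) (b := BasedFunctor.id _) (pasteR_isEquivOver _ _ _) isEquivOver_id (Iso.refl _)).2
    (with_comp hP (fp_isFibGrpd gda g𝒜 g𝒳 _ _) gda (with_fpFst _ hd) h1)

/-- the kernel pair of the diagonal inherits what the inertia has -/
theorem with_diag_kernel (g𝒳 : FibCat.IsFibGrpd 𝒳.p)
    (h : AlgSt.RepByAlgSpWith P (FibCat.inertiaToBase (FibCat.toSelf 𝒳))) :
    AlgSt.RepByAlgSpWith P (FibCat.fpFst (FibCat.diag (FibCat.toSelf 𝒳)) (FibCat.diag (FibCat.toSelf 𝒳))) := by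
  haveI := FC16.isFibered g𝒳
  haveI : (FibCat.selfOver (Over S)).p.IsFibered := FC16.isFibered selfOver_isFibGrpd
  exact (with_congr (f := FibCat.fpFst (FibCat.diag (FibCat.toSelf 𝒳)) (FibCat.diag (FibCat.toSelf 𝒳)))
    (f' := FibCat.inertiaToBase (FibCat.toSelf 𝒳))
    (a := inertiaDiag (FibCat.toSelf 𝒳)) (b := BasedFunctor.id _) (inertiaDiag_isEquivOver _) isEquivOver_id
    (Iso.refl _)).2 h

theorem with_inertia (h𝒳 : IsAlgStack Scheme.fppfPrecoverage 𝒳)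
    {P : MorphismProperty Scheme.{u}} [AlgSpace.EtaleLocal P]
    (hs : AlgSp.IsSmoothLocalST (AlgSp.LocP (S := S) P)) (hb : AlgSp.IsLocalOnBase AlgSp.IsFppfCover (AlgSp.LocP (S := S) P))
    (h : AlgSt.LocQ (AlgSp.LocP P) (FibCat.inertiaToBase (FibCat.toSelf 𝒳))) :
    AlgSt.RepByAlgSpWith (AlgSp.LocP P) (FibCat.inertiaToBase (FibCat.toSelf 𝒳)) := by
  haveI := FC16.isFibered h𝒳.isStack.1
  haveI : (FibCat.selfOver (Over S)).p.IsFibered := FC16.isFibered selfOver_isFibGrpd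
  have hI : IsAlgStack Scheme.fppfPrecoverage (FibCat.inertia (FibCat.toSelf 𝒳)) := by
    obtain ⟨G, hG, -, -⟩ := exists_inverse (inertiaDiag_isEquivOver (FibCat.toSelf 𝒳))
    have hP := StAlg.isAlgStack_prod h𝒳 h𝒳
    exact StAlg.isAlgStack_of_equiv hG (StAlg.isAlgStack_fp hP.isStack hP.diag h𝒳 h𝒳 _ _)
  exact (locQ_iff_with hs GerbAbs.Chart.pbP_locP' hb hI h𝒳
    (repByAlgSp1_iff.2 (with_inertiaToBase h𝒳.isStack.1 selfOver_isFibGrpd (repByAlgSp1_iff.1 h𝒳.diag)))).1 h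

theorem selfOver_hom_ext {a b : (FibCat.selfOver (Over S)).obj} {T : Over S} (φ ψ : a ⟶ b)
    (hφ : (FibCat.selfOver (Over S)).p.IsHomLift (𝟙 T) φ) (hψ : (FibCat.selfOver (Over S)).p.IsHomLift (𝟙 T) ψ) :
    φ = ψ := by
  haveI := hφ
  haveI := hψ
  exact (IsHomLift.fac' (FibCat.selfOver (Over S)).p (𝟙 T) φ).trans
    (IsHomLift.fac' (FibCat.selfOver (Over S)).p (𝟙 T) ψ).symm

/-- `(S/U ⨯ U) ⟶ S/U × S/U` -/
noncomputable def prodE (U : Over S) : FibCat.overCat (U ⨯ U) ⥤ᵇ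
    FibCat.fp (FibCat.toSelf (FibCat.overCat U)) (FibCat.toSelf (FibCat.overCat U)) :=
  FibCat.fpLift (AlgSt.overMap prod.fst) (AlgSt.overMap prod.snd) (eqToIso (selfOver_functor_eq _ _))

theorem prodE_isEquivOver (U : Over S) : FibCat.IsEquivOver (prodE U) := by
  have hsnd : ∀ {a b : (FibCat.overCat (U ⨯ U)).obj} (φ : (prodE U).obj a ⟶ (prodE U).obj b),
      φ.hom.snd.left = φ.hom.fst.left := fun {a b} φ => by
    haveI := iso_lift ((prodE U).obj a) (U := a.left) rfl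
    haveI := iso_lift ((prodE U).obj b) (U := b.left) rfl
    have ha : ((prodE U).obj a).obj.iso.hom = 𝟙 a.left :=
      (IsHomLift.fac' (FibCat.selfOver (Over S)).p (𝟙 a.left) ((prodE U).obj a).obj.iso.hom).trans (by simp; rfl)
    have hb : ((prodE U).obj b).obj.iso.hom = 𝟙 b.left :=
      (IsHomLift.fac' (FibCat.selfOver (Over S)).p (𝟙 b.left) ((prodE U).obj b).obj.iso.hom).trans (by simp; rfl)
    have w : φ.hom.fst.left ≫ ((prodE U).obj b).obj.iso.hom = ((prodE U).obj a).obj.iso.hom ≫ φ.hom.snd.left := fp_w φ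
    rw [ha, hb] at w
    exact ((Category.comp_id _).symm.trans (w.trans (Category.id_comp _))).symm
  haveI : (prodE U).toFunctor.Faithful := ⟨fun {a b φ φ'} e =>
    Over.OverMorphism.ext (congrArg (fun t => t.hom.fst.left) e)⟩
  haveI : (prodE U).toFunctor.Full := ⟨fun {a b} φ => by
    refine ⟨Over.homMk φ.hom.fst.left (Limits.prod.hom_ext ?_ ?_),
      fp_hom_ext (Over.OverMorphism.ext rfl) (Over.OverMorphism.ext (hsnd φ).symm)⟩
    · rw [Category.assoc]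
      exact Over.w φ.hom.fst
    · rw [Category.assoc]
      have h := Over.w φ.hom.snd
      rw [hsnd φ] at h
      exact h⟩
  refine isEquivOver_of _ fun η => ?_
  haveI := iso_lift η (U := η.obj.fst.left) rfl
  have h : η.obj.fst.left = η.obj.snd.left := (snd_p η).symm
  let l : η.obj.fst.left ⟶ U ⨯ U := prod.lift η.obj.fst.hom (eqToHom h ≫ η.obj.snd.hom)
  have hη : η.obj.iso.hom = eqToHom h :=
    (IsHomLift.fac' (FibCat.selfOver (Over S)).p (𝟙 η.obj.fst.left) η.obj.iso.hom).trans (by simp)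
  haveI := iso_lift ((prodE U).obj (Over.mk l)) (U := η.obj.fst.left) rfl
  have hl : ((prodE U).obj (Over.mk l)).obj.iso.hom = 𝟙 η.obj.fst.left :=
    (IsHomLift.fac' (FibCat.selfOver (Over S)).p (𝟙 η.obj.fst.left) ((prodE U).obj (Over.mk l)).obj.iso.hom).trans
      (by simp; rfl)
  refine ⟨Over.mk l, fpIsoMk (Over.isoMk (Iso.refl _) (by
      show 𝟙 _ ≫ η.obj.fst.hom = l ≫ prod.fst
      simp [l]))
    (Over.isoMk (eqToIso h) (by
      show eqToHom h ≫ η.obj.snd.hom = l ≫ prod.snd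
      simp [l])) ?_, @isHomLift_of_fst _ _ _ _ _ _ _ _ _ _ _ _ _ (IsHomLift.of_fac' _ _ _ rfl rfl (by simp; rfl))⟩
  show 𝟙 η.obj.fst.left ≫ η.obj.iso.hom = ((prodE U).obj (Over.mk l)).obj.iso.hom ≫ eqToHom h
  rw [hη, hl]

variable (h𝒳 : IsAlgStack Scheme.fppfPrecoverage 𝒳)
  (hfl : AlgSt.LocQ (AlgSp.LocP @Flat) (FibCat.inertiaToBase (FibCat.toSelf 𝒳)))
  (hfp : AlgSt.LocQ (AlgSp.LocP @LocallyOfFinitePresentation) (FibCat.inertiaToBase (FibCat.toSelf 𝒳)))

include h𝒳 hfl hfp in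
/-- pairs of points of a chart with isomorphic images are covered by a scheme with flat kernel pair -/
theorem exists_pairs {U : Over S} (c : FibCat.overCat U ⥤ᵇ 𝒳)
    (hcf : AlgSt.RepByAlgSpWith (AlgSp.LocP @Smooth) c) :
    ∃ (R₀ : Over S) (k : R₀ ⟶ U ⨯ U),
      Flat (pullback.fst k k).left ∧ LocallyOfFinitePresentation (pullback.fst k k).left ∧
      Smooth (k ≫ prod.fst).left ∧
      (∀ {T : Over S} (r : T ⟶ R₀), ∃ i : c.obj (Over.mk (r ≫ k ≫ prod.fst)) ≅ c.obj (Over.mk (r ≫ k ≫ prod.snd)),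
        𝒳.p.IsHomLift (𝟙 T) i.hom) ∧
      ∀ {T : Over S} (w : T ⟶ U ⨯ U) (i : c.obj (Over.mk (w ≫ prod.fst)) ≅ c.obj (Over.mk (w ≫ prod.snd))),
        𝒳.p.IsHomLift (𝟙 T) i.hom → ∃ R ∈ AlgSp.J S T, ∀ ⦃V : Over S⦄ (f : V ⟶ T), R f →
          ∃ r : V ⟶ R₀, r ≫ k = f ≫ w := by
  have gX := h𝒳.isStack.1
  let Δ := FibCat.diag (FibCat.toSelf 𝒳)
  let V := U ⨯ U
  let ea : BasedFunctor.comp c (FibCat.toSelf 𝒳) ≅ FibCat.toSelf (FibCat.overCat U) :=
    eqToIso (selfOver_functor_eq _ _)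
  let P₀ := pair ea ea
  let y := BasedFunctor.comp (prodE U) P₀
  let a := FibCat.fpFst y Δ
  have hA : IsAlgStack Scheme.fppfPrecoverage (FibCat.fp y Δ) :=
    StAlg.isAlgStack_fp (StAlg.isAlgStack_prod h𝒳 h𝒳).isStack (StAlg.isAlgStack_prod h𝒳 h𝒳).diag
      (isAlgStack_overCat V) h𝒳 y Δ
  obtain ⟨R₀, d, hd, hds⟩ := hA.atlas
  obtain ⟨k, ⟨j⟩⟩ := exists_overMap_iso (BasedFunctor.comp d a)
  have key : ∀ {P : MorphismProperty Scheme.{u}} [AlgSpace.EtaleLocal P],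
      AlgSt.RepByAlgSpWith (AlgSp.LocP P) d →
      AlgSt.RepByAlgSpWith (AlgSp.LocP P) (FibCat.inertiaToBase (FibCat.toSelf 𝒳)) →
      GoodP (AlgSp.LocP (S := S) P) → P (pullback.fst k k).left := fun {P} _ hd' hI hg => by
    have h1 := with_kernel_comp hg (overCat_isFibGrpd R₀) hA.isStack.1 (overCat_isFibGrpd V) hd'
      (with_kernel (with_diag_kernel gX hI) y)
    haveI := idFun_full (𝒳 := FibCat.overCat V)
    haveI := idFun_faithful (𝒳 := FibCat.overCat V)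
    let E : FibCat.overCat (pullback k k) ⥤ᵇ FibCat.fp (BasedFunctor.comp d a) (BasedFunctor.comp d a) :=
      BasedFunctor.comp (overPullback (pullback.condition (f := k) (g := k)))
        (fpMap (F := AlgSt.overMap k) (G := AlgSt.overMap k) (F' := BasedFunctor.comp d a)
          (G' := BasedFunctor.comp d a) (a := BasedFunctor.id _) (b := BasedFunctor.id _) (s := BasedFunctor.id _) j j)
    have hE : FibCat.IsEquivOver E := isEquivOver_comp (overPullback_isEquivOver (IsPullback.of_hasPullback k k))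
      (fpMap_isEquivOver _ _ isEquivOver_id isEquivOver_id)
    exact of_with_locP_overMap _ ((with_congr (f := FibCat.fpFst (BasedFunctor.comp d a) (BasedFunctor.comp d a))
      (f' := AlgSt.overMap (pullback.fst k k)) (a := E) (b := BasedFunctor.id _) hE isEquivOver_id (Iso.refl _)).1 h1)
  haveI := idFun_full (𝒳 := FibCat.fp (FibCat.toSelf 𝒳) (FibCat.toSelf 𝒳))
  haveI := idFun_faithful (𝒳 := FibCat.fp (FibCat.toSelf 𝒳) (FibCat.toSelf 𝒳))
  have ha₁ : AlgSt.RepByAlgSpWith (AlgSp.LocP @Smooth) (BasedFunctor.comp a (AlgSt.overMap prod.fst)) :=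
    (with_congr (f := FibCat.fpFst c c) (f' := BasedFunctor.comp a (AlgSt.overMap prod.fst))
      (a := BasedFunctor.comp
        (fpMap (F := y) (G := Δ) (F' := P₀) (G' := Δ) (a := prodE U) (b := BasedFunctor.id _)
          (s := BasedFunctor.id (FibCat.fp (FibCat.toSelf 𝒳) (FibCat.toSelf 𝒳))) (Iso.refl _) (Iso.refl _))
        (diagFun ea ea))
      (b := BasedFunctor.id _)
      (isEquivOver_comp (fpMap_isEquivOver _ _ (prodE_isEquivOver U) isEquivOver_id) (diagFun_isEquivOver _ _))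
      isEquivOver_id (Iso.refl _)).1 (with_fpFst c hcf)
  have hs : Smooth (k ≫ prod.fst).left := of_with_locP_overMap _ (with_of_iso
    (wrIso j (AlgSt.overMap prod.fst) ≪≫ overMapComp k prod.fst)
    (with_comp goodP_locP (overCat_isFibGrpd R₀) hA.isStack.1 hd ha₁))
  refine ⟨R₀, k, key (with_locP_mono smooth_le_flat hd) (with_inertia h𝒳 isSmoothLocalST_flat isLocalOnBase_fppf_locP_flat hfl) goodP_locP,
    key (with_locP_mono smooth_le_lfp hd) (with_inertia h𝒳 isSmoothLocalST_lfp isLocalOnBase_fppf_locP_lfp hfp) goodP_locP, hs,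
    fun {T} r => ?_, fun {T} w i hi => ?_⟩
  · rw [← Category.assoc, ← Category.assoc]
    let o : Over R₀ := Over.mk r
    let z := d.obj o
    let F₁ := BasedFunctor.comp (AlgSt.overMap (prod.fst : V ⟶ U)) c
    let F₂ := BasedFunctor.comp (AlgSt.overMap (prod.snd : V ⟶ U)) c
    let e₁ := (FibCat.fpFst (FibCat.toSelf 𝒳) (FibCat.toSelf 𝒳)).toFunctor.mapIso z.obj.iso
    let e₂ := (FibCat.fpSnd (FibCat.toSelf 𝒳) (FibCat.toSelf 𝒳)).toFunctor.mapIso z.obj.iso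
    let aj := appIso j o
    haveI hj : (FibCat.overCat V).p.IsHomLift (𝟙 T) aj.hom := isHomLift_appIso_hom j o rfl
    haveI hz := iso_lift z (U := T) ((BasedFunctor.comp d a).w_obj o)
    haveI : 𝒳.p.IsHomLift (𝟙 T) e₁.hom :=
      BasedFunctor.preserves_isHomLift (FibCat.fpFst (FibCat.toSelf 𝒳) (FibCat.toSelf 𝒳)) _ z.obj.iso.hom
    haveI : 𝒳.p.IsHomLift (𝟙 T) e₂.hom :=
      BasedFunctor.preserves_isHomLift (FibCat.fpSnd (FibCat.toSelf 𝒳) (FibCat.toSelf 𝒳)) _ z.obj.iso.hom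
    haveI : 𝒳.p.IsHomLift (𝟙 T) (F₁.toFunctor.mapIso aj).hom := BasedFunctor.preserves_isHomLift F₁ _ aj.hom
    haveI : 𝒳.p.IsHomLift (𝟙 T) (F₂.toFunctor.mapIso aj).hom := BasedFunctor.preserves_isHomLift F₂ _ aj.hom
    exact ⟨(F₁.toFunctor.mapIso aj).symm ≪≫ e₁ ≪≫ e₂.symm ≪≫ F₂.toFunctor.mapIso aj,
      by simpa using (inferInstance : 𝒳.p.IsHomLift (𝟙 T ≫ 𝟙 T ≫ 𝟙 T ≫ 𝟙 T)
        ((F₁.toFunctor.mapIso aj).inv ≫ e₁.hom ≫ e₂.inv ≫ (F₂.toFunctor.mapIso aj).hom))⟩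
  · haveI := hi
    let x := c.obj (Over.mk (w ≫ prod.snd))
    have hxT : 𝒳.p.obj x = T := c.w_obj _
    haveI : 𝒳.p.IsHomLift (𝟙 T) (Iso.refl x).hom := IsHomLift.id hxT
    haveI := iso_lift (y.obj (Over.mk w)) (U := T) (by exact c.w_obj _)
    haveI := iso_lift (Δ.obj x) (U := T) hxT
    haveI : (FibCat.selfOver (Over S)).p.IsHomLift (𝟙 T) ((FibCat.toSelf 𝒳).map i.hom) :=
      BasedFunctor.preserves_isHomLift _ _ _
    haveI : (FibCat.selfOver (Over S)).p.IsHomLift (𝟙 T) ((FibCat.toSelf 𝒳).map (Iso.refl x).hom) :=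
      BasedFunctor.preserves_isHomLift _ _ _
    let e : y.obj (Over.mk w) ≅ Δ.obj x := fpIsoMk i (Iso.refl x)
      (selfOver_hom_ext (T := T) _ _ (inferInstance : (FibCat.selfOver (Over S)).p.IsHomLift (𝟙 T) _) inferInstance)
    have he : (FibCat.fp (FibCat.toSelf 𝒳) (FibCat.toSelf 𝒳)).p.IsHomLift (𝟙 T) e.hom :=
      @isHomLift_of_fst _ _ _ _ _ _ _ _ _ _ _ (𝟙 T) e.hom hi
    let o : (FibCat.fp y Δ).obj := fpObj (Over.mk w) x e rfl he
    obtain ⟨ts, tf, tp⟩ := GerbAbs.Chart.triple_of_with (isAlgStack_overCat R₀) hA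
      (with_locP_mono smooth_le_flat hd) (with_locP_mono smooth_le_lfp hd) hds
    obtain ⟨R, hR, hR'⟩ := GerbAbs.locSurjObj_at _ (GerbAbs.OfCover.locSurjObj (isAlgStack_overCat R₀) hA ts tf tp) o
      (U := T) rfl
    refine ⟨R, hR, fun W f hf => ?_⟩
    obtain ⟨x₀, g, hg⟩ := hR' f hf
    haveI := hg
    obtain rfl : x₀.left = W := (d.w_obj x₀).symm.trans (GerbAbs.domEq hg)
    let m : (AlgSt.overMap k).obj x₀ ⟶ Over.mk w := (appIso j x₀).inv ≫ a.map g
    haveI := isHomLift_appIso_hom j x₀ (U := x₀.left) rfl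
    haveI : (FibCat.overCat V).p.IsHomLift f (a.map g) := BasedFunctor.preserves_isHomLift a f g
    haveI hm : (FibCat.overCat V).p.IsHomLift f m := by
      simpa using (inferInstance : (FibCat.overCat V).p.IsHomLift (𝟙 x₀.left ≫ f) ((appIso j x₀).inv ≫ a.map g))
    refine ⟨x₀.hom, ?_⟩
    have h1 : m.left = f := (IsHomLift.fac' (FibCat.overCat V).p f m).trans (by simp)
    exact (Over.w m).symm.trans (by rw [h1]; rfl)

end Groth.Agent.AlgGerbe16
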