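import Groth.Agent.Lib.AlgGerbe16.IsoClass
import Groth.Agent.Lib.AlgGerbe16.Kernel
import Groth.Agent.Lib.GerbAbs16.GoodQInst
import Groth.Agent.Lib.AlgSpace.FlatQuot

/-! With flat inertia the sheaf of isomorphism classes is an algebraic space. -/

universe u

open CategoryTheory CategoryTheory.Functor CategoryTheory.Limits AlgebraicGeometry Opposite

set_option linter.style.haveILetI false
set_option linter.unusedSectionVars false
set_option backward.isDefEq.respectTransparency false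
set_option backward.isDefEq.respectTransparency.types false

namespace Groth.Agent.AlgGerbe16

open Groth.Agent.FC16 hiding overMap
open Groth.Agent.StAlg Groth.Agent.StAlg16 AlgSt

variable {S : Scheme.{u}} {𝒳 : AlgSt.Cat S} (h : FibCat.IsFibGrpd 𝒳.p) {U : Over S}
  (c : FibCat.overCat U ⥤ᵇ 𝒳)

theorem cls_congr {T : Over S} {x x' : 𝒳.obj} (hx : 𝒳.p.obj x = T) (hx' : 𝒳.p.obj x' = T) (e : x ≅ x')
    (he : 𝒳.p.IsHomLift (𝟙 T) e.hom) : cls h x hx = cls h x' hx' :=
  congrArg ((η h).app (op T)) (Quotient.sound ⟨e, he⟩)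

/-- the class of a chart -/
noncomputable def chartHom : (AlgSp.yon S).obj U ⟶ clsSp h :=
  ObjectProperty.homMk
    { app := fun T => ↾fun g => cls h (c.obj (Over.mk g.down)) (c.w_obj (Over.mk g.down))
      naturality := fun T T' f => by
        ext g
        let m : Over.mk (f.unop ≫ g.down) ⟶ Over.mk g.down := Over.homMk f.unop rfl
        haveI : (FibCat.overCat U).p.IsHomLift f.unop m := IsHomLift.map (FibCat.overCat U).p m
        haveI : 𝒳.p.IsHomLift f.unop (c.map m) := BasedFunctor.preserves_isHomLift c f.unop m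
        exact (cls_map h f.unop (c.w_obj (Over.mk (f.unop ≫ g.down))) (c.w_obj (Over.mk g.down)) (c.map m)).symm }

theorem chartHom_app {T : Over S} (g : T ⟶ U) :
    (chartHom h c).hom.app (op T) (ULift.up g) = cls h (c.obj (Over.mk g)) (c.w_obj (Over.mk g)) := rfl

theorem chartHom_locallySurjective (hc : Gerb.LocSurjObj (AlgSp.J S) c) :
    Sheaf.IsLocallySurjective (chartHom h c) := by
  refine ⟨fun {T} s => ?_⟩
  refine (AlgSp.J S).transitive (Presheaf.imageSieve_mem _ (η h) s) _ fun V f hf => ?_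
  obtain ⟨t, ht⟩ := hf
  induction t using Quotient.inductionOn with | _ x =>
  obtain ⟨x, hx⟩ := x
  obtain ⟨R, hR, hR'⟩ := GerbAbs.locSurjObj_at _ hc x hx
  refine (AlgSp.J S).superset_covering (fun W g hg => ?_) hR
  obtain ⟨a, m, hm⟩ := hR' g hg
  haveI := hm
  obtain rfl : a.left = W := (c.w_obj a).symm.trans (GerbAbs.domEq hm)
  refine ⟨ULift.up a.hom, ?_⟩
  rw [chartHom_app, op_comp, Functor.map_comp_apply, ← ht]
  exact (cls_map h g (c.w_obj a) hx m).symm

variable {c}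

theorem pullback_section_ext {q : (AlgSp.yon S).obj U ⟶ clsSp h} {V : Over S}
    {x y : (pullback q q).obj.obj (op V)}
    (h₁ : (pullback.fst q q).hom.app (op V) x = (pullback.fst q q).hom.app (op V) y)
    (h₂ : (pullback.snd q q).hom.app (op V) x = (pullback.snd q q).hom.app (op V) y) : x = y :=
  ((Types.isPullback_iff _ _ _ _).1
    ((IsPullback.of_hasPullback q q).map
      (sheafToPresheaf (AlgSp.J S) _ ⋙ (evaluation _ _).obj (op V)))).2.1 x y ⟨h₁, h₂⟩

theorem isAlgSpace_clsSp (h𝒳 : IsAlgStack Scheme.fppfPrecoverage 𝒳)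
    (hfl : AlgSt.LocQ (AlgSp.LocP @Flat) (FibCat.inertiaToBase (FibCat.toSelf 𝒳)))
    (hfp : AlgSt.LocQ (AlgSp.LocP @LocallyOfFinitePresentation) (FibCat.inertiaToBase (FibCat.toSelf 𝒳))) :
    AlgSp.IsAlgSpace (clsSp h) := by
  obtain ⟨U, c, hc, hcs⟩ := h𝒳.atlas
  obtain ⟨R₀, k, hk₁, hk₂, hks, hiso, hlift⟩ := exists_pairs h𝒳 hfl hfp c hc
  obtain ⟨ts, tf, tp⟩ := GerbAbs.Chart.triple_of_with (isAlgStack_overCat U) h𝒳
    (with_locP_mono smooth_le_flat hc) (with_locP_mono smooth_le_lfp hc) hcs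
  let q := chartHom h c
  haveI : Sheaf.IsLocallySurjective q :=
    chartHom_locallySurjective h c (GerbAbs.OfCover.locSurjObj (isAlgStack_overCat U) h𝒳 ts tf tp)
  let a₁ := (AlgSp.yon S).map (k ≫ prod.fst)
  let a₂ := (AlgSp.yon S).map (k ≫ prod.snd)
  have hq : a₁ ≫ q = a₂ ≫ q := by
    ext T ⟨r⟩
    obtain ⟨i, hi⟩ := hiso r
    exact cls_congr h (c.w_obj (Over.mk (r ≫ k ≫ prod.fst))) (c.w_obj (Over.mk (r ≫ k ≫ prod.snd))) i hi
  let p := pullback.lift a₁ a₂ hq
  have hp₁ : p ≫ pullback.fst q q = a₁ := pullback.lift_fst _ _ _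
  have hp₂ : p ≫ pullback.snd q q = a₂ := pullback.lift_snd _ _ _
  haveI : Sheaf.IsLocallySurjective p := by
    refine ⟨fun {T} s => ?_⟩
    let a : T ⟶ U := ((pullback.fst q q).hom.app (op T) s).down
    let b : T ⟶ U := ((pullback.snd q q).hom.app (op T) s).down
    have e : cls h (c.obj (Over.mk a)) (c.w_obj (Over.mk a)) = cls h (c.obj (Over.mk b)) (c.w_obj (Over.mk b)) :=
      ConcreteCategory.congr_hom (congrArg (fun z => z.hom.app (op T)) (pullback.condition (f := q) (g := q))) s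
    obtain ⟨R, hR, hR'⟩ := exists_local_iso h (c.w_obj (Over.mk a)) (c.w_obj (Over.mk b)) e
    refine (AlgSp.J S).transitive hR _ fun V f hf => ?_
    obtain ⟨x₀, φ, ψ, hφ, hψ⟩ := hR' f hf
    haveI := hφ
    haveI := hψ
    let ma : Over.mk (f ≫ a) ⟶ Over.mk a := Over.homMk f rfl
    let mb : Over.mk (f ≫ b) ⟶ Over.mk b := Over.homMk f rfl
    haveI : (FibCat.overCat U).p.IsHomLift f ma := IsHomLift.map (FibCat.overCat U).p ma
    haveI : (FibCat.overCat U).p.IsHomLift f mb := IsHomLift.map (FibCat.overCat U).p mb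
    haveI : 𝒳.p.IsHomLift f (c.map ma) := BasedFunctor.preserves_isHomLift c f ma
    haveI : 𝒳.p.IsHomLift f (c.map mb) := BasedFunctor.preserves_isHomLift c f mb
    obtain ⟨e₁, he₁, -⟩ := exists_iso_of_lifts h f (c.map ma) φ
    obtain ⟨e₂, he₂, -⟩ := exists_iso_of_lifts h f ψ (c.map mb)
    haveI := he₁
    haveI := he₂
    let w : V ⟶ U ⨯ U := prod.lift (f ≫ a) (f ≫ b)
    have hw₁ : w ≫ prod.fst = f ≫ a := prod.lift_fst _ _
    have hw₂ : w ≫ prod.snd = f ≫ b := prod.lift_snd _ _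
    obtain ⟨R₂, hR₂, hR₂'⟩ : ∃ R₂ ∈ AlgSp.J S V, ∀ ⦃W : Over S⦄ (g : W ⟶ V), R₂ g → ∃ r : W ⟶ R₀, r ≫ k = g ≫ w := by
      have := hlift w
      rw [hw₁, hw₂] at this
      exact this (e₁ ≪≫ e₂) (by simpa using (inferInstance : 𝒳.p.IsHomLift (𝟙 V ≫ 𝟙 V) (e₁.hom ≫ e₂.hom)))
    refine (AlgSp.J S).superset_covering (fun W g hg => ?_) hR₂
    obtain ⟨r, hr⟩ := hR₂' g hg
    refine ⟨ULift.up r, pullback_section_ext h ?_ ?_⟩
    · rw [NatTrans.naturality_apply]
      refine (congrArg (fun z : (AlgSp.yon S).obj R₀ ⟶ (AlgSp.yon S).obj U => z.hom.app (op W) (ULift.up r)) hp₁).trans ?_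
      refine ULift.ext _ _ ?_
      show r ≫ k ≫ prod.fst = (g ≫ f) ≫ a
      rw [reassoc_of% hr, hw₁, Category.assoc]
    · rw [NatTrans.naturality_apply]
      refine (congrArg (fun z : (AlgSp.yon S).obj R₀ ⟶ (AlgSp.yon S).obj U => z.hom.app (op W) (ULift.up r)) hp₂).trans ?_
      refine ULift.ext _ _ ?_
      show r ≫ k ≫ prod.snd = (g ≫ f) ≫ b
      rw [reassoc_of% hr, hw₂, Category.assoc]
  haveI : IsIso (prodComparison (AlgSp.yon S) U U) := inferInstance
  have hk : ∀ {A : AlgSp.Sp S} (x y : A ⟶ (AlgSp.yon S).obj R₀), x ≫ p = y ≫ p →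
      x ≫ (AlgSp.yon S).map k = y ≫ (AlgSp.yon S).map k := fun x y e => by
    have e₁ := e =≫ pullback.fst q q
    have e₂ := e =≫ pullback.snd q q
    simp only [Category.assoc, hp₁, hp₂, a₁, a₂, Functor.map_comp] at e₁ e₂
    rw [← cancel_mono (prodComparison (AlgSp.yon S) U U)]
    exact Limits.prod.hom_ext (by simpa using e₁) (by simpa using e₂)
  have sq0 := ((IsPullback.of_hasPullback k k).map (AlgSp.yon S)).flip
  have sqp : IsPullback ((AlgSp.yon S).map (pullback.snd k k)) ((AlgSp.yon S).map (pullback.fst k k)) p p := by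
    refine ⟨⟨pullback.hom_ext ?_ ?_⟩, ⟨PullbackCone.IsLimit.mk _ (fun s => sq0.lift s.fst s.snd (hk _ _ s.condition))
      (fun s => sq0.lift_fst _ _ _) (fun s => sq0.lift_snd _ _ _) (fun s m m₁ m₂ => sq0.hom_ext ?_ ?_)⟩⟩
    · simp only [Category.assoc, hp₁, a₁, ← Functor.map_comp]
      rw [← pullback.condition_assoc]
    · simp only [Category.assoc, hp₂, a₂, ← Functor.map_comp]
      rw [← pullback.condition_assoc]
    · rw [sq0.lift_fst]; exact m₁
    · rw [sq0.lift_snd]; exact m₂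
  haveI := hk₁
  haveI := hk₂
  obtain ⟨hR', hpf, hpp, hps⟩ := AlgSpace.isAlgSpace_of_flat_kernelPair sqp
  have hb : ∀ i, ![AlgSp.LocP @Flat, AlgSp.LocP @LocallyOfFinitePresentation, AlgSp.IsSurjectiveMor] i p := by
    intro i
    fin_cases i
    · exact AlgSpace.locP_of_repWith hR' hpf
    · exact AlgSpace.locP_of_repWith hR' hpp
    · exact AlgSpace.surjective_map_of_repWith hps
  have hy := AlgSp.IsAlgSpace.yon_obj U
  have hR₀ := AlgSp.IsAlgSpace.yon_obj R₀
  have hsm := hks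
  refine AlgSpace.isAlgSpace_of_flat_kernelPair_space hR' (IsPullback.of_hasPullback q q).flip
    ((GerbAbs.Chart.goodQ_flat (𝒳 := 𝒳)).source hR₀ hR' hy p _ hb ?_)
    ((GerbAbs.Chart.goodQ_lfp (𝒳 := 𝒳)).source hR₀ hR' hy p _ hb ?_)
  · rw [hp₁]; exact (locP_yon_iff _).2 (inferInstanceAs (Flat (k ≫ prod.fst).left))
  · rw [hp₁]; exact (locP_yon_iff _).2 (inferInstanceAs (LocallyOfFinitePresentation (k ≫ prod.fst).left))

end Groth.Agent.AlgGerbe16
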