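import Groth.Agent.Lib.ResGerb16.Existence
import Groth.Agent.Lib.AlgGerbe16.Space
import Groth.Agent.Lib.GerbAbs16.MorGerbe
import Groth.Agent.Lib.StAlg16.QCMor
import Groth.Agent.Lib.AlgSpDescent.SchemeSmooth

/-! Reduced locally noetherian one point stacks are gerbes. -/

universe u

open CategoryTheory CategoryTheory.Functor CategoryTheory.Limits AlgebraicGeometry Opposite

set_option linter.style.haveILetI false
set_option linter.unusedSectionVars false
set_option backward.isDefEq.respectTransparency false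
set_option backward.isDefEq.respectTransparency.types false

namespace Groth.Agent.AlgGerbe16

open Groth.Agent.FC16 hiding overMap
open Groth.Agent.StAlg Groth.Agent.StAlg16 AlgSt

variable {S : Scheme.{u}} {k : Type u} [Field k] {a : Spec (CommRingCat.of k) ⟶ S}

/-- everything over a field is flat -/
theorem with_flat_field {𝒳 : AlgSt.Cat S} (h𝒳 : FibCat.IsFibGrpd 𝒳.p) {f : 𝒳 ⥤ᵇ FibCat.overCat (Over.mk a)}
    (hf : AlgSt.RepByAlgSpWith (AlgSp.LocP @LocallyOfFiniteType) f) :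
    AlgSt.RepByAlgSpWith (AlgSp.LocP @Flat) f := by
  let K : Over S := Over.mk a
  let W : AlgSp.Space S := ⟨_, AlgSp.IsAlgSpace.yon_obj K⟩
  let w : AlgSt.ofSp W.obj ⥤ᵇ FibCat.overCat K := BasedFunctor.comp (AlgSt.toOverCat K) (AlgSt.overMap (𝟙 K))
  obtain ⟨V, b, e, he, hi, hb⟩ := exists_baseChange_space GerbAbs.Chart.pbP_locP'
    (StAlg.isLocalOnBase_fppf_of_fpqc (AlgSpDescent.isLocalOnBase_fpqc_locP AlgSpDescent.precompEtale_lft
      AlgSpDescent.descendsEtaleSource_locallyOfFiniteType))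
    h𝒳 (overCat_isFibGrpd K) hf W w
  haveI : Surjective (𝟙 K : K ⟶ K).left := inferInstanceAs (Surjective (𝟙 K.left))
  have hfl : AlgSp.LocP @Flat b.hom := by
    obtain ⟨U, c, hce, hcs⟩ := V.property.atlas
    obtain ⟨h, hh⟩ := (AlgSp.yon S).map_surjective (c ≫ b.hom)
    exact AlgSpace.locP_of_one_chart c (𝟙 _) h hce hcs (AlgSp.repWith_id _ _)
      (by rw [hh]; exact (Category.comp_id _).symm)
      (ResGerb16.flat_to_field h.left)
  exact (with_iff_baseChange_cover GerbAbs.Chart.pbP_locP'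
    isLocalOnBase_fppf_locP_flat h𝒳 (overCat_isFibGrpd K) (repByAlgSp1_of_with hf) W w
    (with_toOverCat_comp (with_locP_overMap (𝟙 K) (inferInstanceAs (Flat (𝟙 K.left)))))
    (with_toOverCat_comp (with_locP_overMap (𝟙 K) (inferInstanceAs (LocallyOfFinitePresentation (𝟙 K.left)))))
    (with_toOverCat_comp (GerbAbs.Chart.with_surjective_overMap (𝟙 K) ‹_›))).2
    ⟨V, b, e, he, hi, hfl⟩

variable {𝒵 : AlgSt.Cat S}

/-- the inertia of a reduced locally noetherian one point stack is flat and locally of finite presentation -/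
theorem locQ_inertia (h𝒵 : IsAlgStack Scheme.fppfPrecoverage 𝒵)
    (hred : AlgSt.SmoothLocally (fun T => IsReduced T) 𝒵)
    (hn : AlgSt.SmoothLocally (fun T => IsLocallyNoetherian T) 𝒵) [Nonempty (Points 𝒵)]
    [Subsingleton (Points 𝒵)] :
    AlgSt.LocQ (AlgSp.LocP @Flat) (FibCat.inertiaToBase (FibCat.toSelf 𝒵)) ∧
      AlgSt.LocQ (AlgSp.LocP @LocallyOfFinitePresentation) (FibCat.inertiaToBase (FibCat.toSelf 𝒵)) := by
  obtain ⟨K, _, b, z, hzp, hzs, hzf⟩ := ResGerb16.exists_fppf_pt h𝒵 hred hn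
  have gZ := h𝒵.isStack.1
  haveI := FC16.isFibered gZ
  haveI : (FibCat.selfOver (Over S)).p.IsFibered := FC16.isFibered selfOver_isFibGrpd
  have hI : IsAlgStack Scheme.fppfPrecoverage (FibCat.inertia (FibCat.toSelf 𝒵)) := by
    obtain ⟨G, hG, -, -⟩ := exists_inverse (inertiaDiag_isEquivOver (FibCat.toSelf 𝒵))
    have hP := StAlg.isAlgStack_prod h𝒵 h𝒵
    exact StAlg.isAlgStack_of_equiv hG (StAlg.isAlgStack_fp hP.isStack hP.diag h𝒵 h𝒵 _ _)
  have hlft := with_inertiaToBase gZ selfOver_isFibGrpd (StAlg.lft_diag_toSelf h𝒵)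
  have gI := hI.isStack.1
  have h1 := with_fpFst z hlft
  have gP := fp_isFibGrpd (overCat_isFibGrpd (Over.mk b)) gI gZ z (FibCat.inertiaToBase (FibCat.toSelf 𝒵))
  have hfl := with_of_fpFst_cover GerbAbs.Chart.pbP_locP' isLocalOnBase_fppf_locP_flat gI gZ (overCat_isFibGrpd _)
    (repByAlgSp1_of_with hlft) hzf hzp hzs (with_flat_field gP h1)
  have hfp := with_of_fpFst_cover GerbAbs.Chart.pbP_locP' isLocalOnBase_fppf_locP_lfp gI gZ (overCat_isFibGrpd _)
    (repByAlgSp1_of_with hlft) hzf hzp hzs (ResGerb16.with_lfp_of_lft gP h1)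
  exact ⟨(locQ_iff_with isSmoothLocalST_flat GerbAbs.Chart.pbP_locP' isLocalOnBase_fppf_locP_flat hI h𝒵
      (repByAlgSp1_of_with hfl)).2 hfl,
    (locQ_iff_with isSmoothLocalST_lfp GerbAbs.Chart.pbP_locP' isLocalOnBase_fppf_locP_lfp hI h𝒵
      (repByAlgSp1_of_with hfp)).2 hfp⟩

/-- the target of a gerbe inherits reducedness, local noetherianness and the points -/
theorem target_props {X : AlgSp.Sp S} (hX : AlgSp.IsAlgSpace X) (h𝒵 : IsAlgStack Scheme.fppfPrecoverage 𝒵)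
    {π : 𝒵 ⥤ᵇ AlgSt.ofSp X} (hπ : Gerb.IsGerbeOver (QuotSh.J Scheme.fppfPrecoverage S) π)
    (hred : AlgSt.SmoothLocally (fun T => IsReduced T) 𝒵)
    (hn : AlgSt.SmoothLocally (fun T => IsLocallyNoetherian T) 𝒵) [Nonempty (Points 𝒵)]
    [Subsingleton (Points 𝒵)] :
    AlgSp.EtaleLocally (fun T => IsReduced T) X ∧ AlgSp.IsLocNoethSp X ∧
      Nonempty (AlgSp.Points X) ∧ Subsingleton (AlgSp.Points X) := by
  have hM := isAlgStack_ofSp hX
  have hsur := GerbAbs.Chart.isSurjective h𝒵 hM hπ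
  have hb := spPts_bijective (F := X)
  have hne : Nonempty (AlgSp.Points X) := ⟨spPts (Points.map π (Classical.arbitrary (Points 𝒵)))⟩
  have hsub : Subsingleton (AlgSp.Points X) := ⟨fun x y => by
    obtain ⟨x', rfl⟩ := hb.2 x
    obtain ⟨y', rfl⟩ := hb.2 y
    obtain ⟨x'', rfl⟩ := hsur x'
    obtain ⟨y'', rfl⟩ := hsur y'
    rw [Subsingleton.elim x'' y'']⟩
  obtain ⟨V, v, hve, hvs⟩ := hX.atlas
  let y : FibCat.overCat V ⥤ᵇ AlgSt.ofSp X := BasedFunctor.comp (AlgSt.ofOverCat V) (AlgSt.ofSpMap v)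
  have hy : AlgSt.RepByAlgSpWith (AlgSp.LocP @Smooth) y :=
    StAlg.with_yon (P := @Etale) (fun _ _ _ h => AlgSpace.locP_of_repWith (AlgSp.IsAlgSpace.yon_obj _)
      (AlgSpace.repWith_mono AlgSpDescent.etale_le_smooth h)) hve
  obtain ⟨U, h, c, ⟨j⟩, hc, hcs⟩ := exists_good h𝒵 hM π y
  have hπ' := GerbAbs.isGerbeOver_fpFst (overCat_isFibGrpd V) hM.isStack.1 y hπ
  have hA := StAlg.isAlgStack_fp hM.isStack hM.diag (isAlgStack_overCat V) h𝒵 y π
  haveI : Smooth h.left := GerbAbs.Chart.smooth_chart hA hπ' hc j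
  haveI : Surjective h.left := (GerbAbs.Chart.flat_lfp_surjective hA hπ' hc hcs j).2.2
  have hU := with_fpSnd_chart goodP_locP h𝒵.isStack.1 hM.isStack.1 hc hy
  haveI := hred U _ hU
  haveI := hn U _ hU
  exact ⟨⟨V, v, hve, hvs, H12.isReduced_of_flat_surjective h.left⟩,
    ⟨V, v, hve, hvs, AlgSpDescent.isLocallyNoetherian_of_fppf h.left⟩, hne, hsub⟩

end Groth.Agent.AlgGerbe16
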