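import Groth.Agent.Lib.AlgGerbe16.Dense
import Groth.Agent.Lib.AlgGerbe16.InertiaComp
import Groth.Agent.Lib.StAlg16.ReducedSub
import Groth.Agent.Lib.StAlg16.RedInduced
import Groth.Agent.Lib.StAlg16.ImageSub
import Groth.Agent.Lib.StAlg16.UnivTop
import Groth.Agent.Lib.AlgSpace.Proper
import Groth.Agent.Lib.ResGerb16.Image
import Groth.Agent.Lib.AlgSpDescent.SchemeSmooth

/-! Stratifications by gerbes of a stack with quasi-compact inertia. -/

universe u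

open CategoryTheory CategoryTheory.Functor CategoryTheory.Limits AlgebraicGeometry Opposite

set_option linter.style.haveILetI false
set_option linter.unusedSectionVars false
set_option backward.isDefEq.respectTransparency false
set_option backward.isDefEq.respectTransparency.types false

namespace Groth.Agent.AlgGerbe16

open Groth.Agent.FC16 hiding overMap
open Groth.Agent.StAlg Groth.Agent.StAlg16 AlgSt

variable {S : Scheme.{u}} {𝒳 : AlgSt.Cat S}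

/-- what the inertia has passes to full substacks -/
theorem with_inertia_fullSub (h𝒳 : FibCat.IsFibGrpd 𝒳.p) {Q : 𝒳.obj → Prop} {P : MorphismProperty (AlgSp.Sp S)}
    (h : AlgSt.RepByAlgSpWith P (FibCat.inertiaToBase (FibCat.toSelf 𝒳))) :
    AlgSt.RepByAlgSpWith P (FibCat.inertiaToBase (FibCat.toSelf (fullSub 𝒳 Q))) :=
  (with_congr (f := FibCat.fpFst (AlgSt.subIncl 𝒳 Q) (FibCat.inertiaToBase (FibCat.toSelf 𝒳)))
    (f' := FibCat.inertiaToBase (FibCat.toSelf (fullSub 𝒳 Q))) (a := inertiaIncl Q) (b := BasedFunctor.id _)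
    (inertiaIncl_isEquivOver h𝒳) isEquivOver_id (Iso.refl _)).1 (with_fpFst _ h)

theorem rep1_inertia (h𝒳 : IsAlgStack Scheme.fppfPrecoverage 𝒳) :
    AlgSt.RepByAlgSp1 (FibCat.inertiaToBase (FibCat.toSelf 𝒳)) :=
  repByAlgSp1_of_with (with_inertiaToBase h𝒳.isStack.1 selfOver_isFibGrpd (StAlg.lft_diag_toSelf h𝒳))

theorem qc_inertia_fullSub (h𝒳 : IsAlgStack Scheme.fppfPrecoverage 𝒳) {Q : 𝒳.obj → Prop}
    (hQ : IsAlgStack Scheme.fppfPrecoverage (fullSub 𝒳 Q))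
    (hI : AlgSt.IsQuasiCompactMor Scheme.fppfPrecoverage (FibCat.inertiaToBase (FibCat.toSelf 𝒳))) :
    AlgSt.IsQuasiCompactMor Scheme.fppfPrecoverage (FibCat.inertiaToBase (FibCat.toSelf (fullSub 𝒳 Q))) :=
  (with_qc_iff (isAlgStack_inertia_self hQ) hQ (rep1_inertia hQ)).1
    (with_inertia_fullSub h𝒳.isStack.1 ((with_qc_iff (isAlgStack_inertia_self h𝒳) h𝒳 (rep1_inertia h𝒳)).2 hI))

/-- full substacks of gerbes are gerbes -/
theorem isAlgGerbe_fullSub (h𝒳 : IsAlgStack Scheme.fppfPrecoverage 𝒳) {Q : 𝒳.obj → Prop}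
    (hQ : IsAlgStack Scheme.fppfPrecoverage (fullSub 𝒳 Q))
    (h₁ : AlgSt.RepByAlgSpWith (AlgSp.LocP @Flat) (FibCat.inertiaToBase (FibCat.toSelf 𝒳)))
    (h₂ : AlgSt.RepByAlgSpWith (AlgSp.LocP @LocallyOfFinitePresentation) (FibCat.inertiaToBase (FibCat.toSelf 𝒳))) :
    Gerb.IsAlgGerbe Scheme.fppfPrecoverage (fullSub 𝒳 Q) := by
  have hI := isAlgStack_inertia_self hQ
  have f₁ := (locQ_iff_with isSmoothLocalST_flat GerbAbs.Chart.pbP_locP' isLocalOnBase_fppf_locP_flat hI hQ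
    (rep1_inertia hQ)).2 (with_inertia_fullSub h𝒳.isStack.1 h₁)
  have f₂ := (locQ_iff_with isSmoothLocalST_lfp GerbAbs.Chart.pbP_locP' isLocalOnBase_fppf_locP_lfp hI hQ
    (rep1_inertia hQ)).2 (with_inertia_fullSub h𝒳.isStack.1 h₂)
  exact ⟨⟨_, isAlgSpace_clsSp hQ.isStack.1 hQ f₁ f₂⟩, π hQ.isStack.1, isGerbeOver hQ.isStack.1⟩

theorem isAlgGerbe_of_equiv {𝒵 : AlgSt.Cat S} (h𝒵 : FibCat.IsFibGrpd 𝒵.p) {e : 𝒵 ⥤ᵇ 𝒳}
    (he : FibCat.IsEquivOver e) (h : Gerb.IsAlgGerbe Scheme.fppfPrecoverage 𝒵) :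
    Gerb.IsAlgGerbe Scheme.fppfPrecoverage 𝒳 := by
  obtain ⟨X, p, hp⟩ := h
  obtain ⟨G, hG, -, -⟩ := exists_inverse he
  have gX := isFibGrpd_of_isEquivOver he h𝒵
  exact ⟨X, BasedFunctor.comp G p,
    GerbAbs.isGerbeOver_comp gX h𝒵 (GerbAbs.isGerbeOver_of_isEquivOver gX hG) hp⟩

/-- the points map of a closed immersion is closed -/
theorem isClosedMap_of_closedImm {𝒵 : AlgSt.Cat S} (h𝒵 : IsAlgStack Scheme.fppfPrecoverage 𝒵)
    (h𝒳 : IsAlgStack Scheme.fppfPrecoverage 𝒳) {i : 𝒵 ⥤ᵇ 𝒳} (hi : AlgSt.IsClosedImm i) :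
    IsClosedMap (Points.map i) := by
  have h1 : AlgSt.RepByAlgSpWith (AlgSp.UnivSp fun _ _ a => IsClosedMap (AlgSp.Points.map a)) i :=
    repByAlgSpWith_mono (fun _ _ _ _ h => AlgSpace.isUnivClosedMor_of_repWith_closedImmersion h) hi
  have h2 := (with_univ_iff topP_isClosedMap h𝒵 h𝒳 (repByAlgSp1_of_with hi)).1 h1 𝒳 h𝒳 (BasedFunctor.id 𝒳)
  intro C hC
  have e : Points.map i '' C = Points.map (FibCat.fpFst (BasedFunctor.id 𝒳) i) ''
      (Points.map (FibCat.fpSnd (BasedFunctor.id 𝒳) i) ⁻¹' C) := by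
    ext p
    constructor
    · rintro ⟨z, hz, rfl⟩
      obtain ⟨w, hw₁, hw₂⟩ := exists_fp_point h𝒵.isStack.1 h𝒳.isStack.1 h𝒳.isStack.1 i (BasedFunctor.id 𝒳)
        (Points.map i z) z (by rw [map_id_apply])
      exact ⟨w, by show Points.map _ w ∈ C; rwa [hw₂], hw₁⟩
    · rintro ⟨w, hw, rfl⟩
      refine ⟨_, hw, ?_⟩
      have e' := congrFun (map_eq_map_of_iso (FibCat.fpIso (BasedFunctor.id 𝒳) i)) w
      rw [StAlg16.map_comp_apply, StAlg16.map_comp_apply, map_id_apply] at e'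
      exact e'.symm
  rw [e]
  exact h2 _ (hC.preimage (continuous_map h𝒵 _))

/-- the conditions on a stratum -/
def IsStratum (QC : Prop) (T : Set (Points 𝒳)) (Q : 𝒳.obj → Prop) : Prop :=
  AlgSt.IsLocClosedSubstack 𝒳 Q Scheme.fppfPrecoverage ∧
    AlgSt.SmoothLocally (fun X => IsReduced X) (AlgSt.fullSub 𝒳 Q) ∧
    Gerb.IsAlgGerbe Scheme.fppfPrecoverage (AlgSt.fullSub 𝒳 Q) ∧
    (QC → AlgSt.IsQuasiCompact (AlgSt.fullSub 𝒳 Q)) ∧
    Set.range (AlgSt.Points.map (AlgSt.subIncl 𝒳 Q)) ⊆ T ∧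
    IsOpen ((Subtype.val : T → AlgSt.Points 𝒳) ⁻¹' Set.range (AlgSt.Points.map (AlgSt.subIncl 𝒳 Q))) ∧
    (¬ QC → Dense ((Subtype.val : T → AlgSt.Points 𝒳) ⁻¹' Set.range (AlgSt.Points.map (AlgSt.subIncl 𝒳 Q)))) ∧
    (T.Nonempty → (Set.range (AlgSt.Points.map (AlgSt.subIncl 𝒳 Q))).Nonempty)

theorem exists_affine_chart (h : IsAlgStack Scheme.fppfPrecoverage 𝒳) :
    ∃ (W : Over S) (w : FibCat.overCat W ⥤ᵇ 𝒳), IsAffine W.left ∧
      AlgSt.RepByAlgSpWith (AlgSp.LocP @Smooth) w ∧ (Nonempty (Points 𝒳) → Nonempty W.left) := by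
  obtain ⟨U, x, hx, hxs⟩ := h.atlas
  have mk : ∀ (Wo : U.left.Opens), IsAffineOpen Wo →
      ∃ (W : Over S) (w : FibCat.overCat W ⥤ᵇ 𝒳), IsAffine W.left ∧
        AlgSt.RepByAlgSpWith (AlgSp.LocP @Smooth) w ∧ ((Wo : Set U.left).Nonempty → Nonempty W.left) := by
    intro Wo hW
    let W : Over S := Over.mk (Wo.ι ≫ U.hom)
    let m : W ⟶ U := Over.homMk Wo.ι rfl
    haveI : Smooth m.left := inferInstanceAs (Smooth Wo.ι)
    exact ⟨W, BasedFunctor.comp (AlgSt.overMap m) x, hW,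
      with_comp goodP_locP (overCat_isFibGrpd W) (overCat_isFibGrpd U) (with_locP_overMap m inferInstance) hx,
      fun ⟨t, ht⟩ => ⟨⟨t, ht⟩⟩⟩
  rcases isEmpty_or_nonempty (Points 𝒳) with he | ⟨⟨p⟩⟩
  · obtain ⟨W, w, h₁, h₂, -⟩ := mk ⊥ (isAffineOpen_bot U.left)
    exact ⟨W, w, h₁, h₂, fun hn => (IsEmpty.false hn.some).elim⟩
  · obtain ⟨t, -⟩ := surjective_ofChart h.isStack.1 hxs p
    obtain ⟨Wo, hW, htW, -⟩ := exists_isAffineOpen_mem_and_subset (X := U.left) (x := t) (U := ⊤) trivial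
    obtain ⟨W, w, h₁, h₂, h₃⟩ := mk Wo hW
    exact ⟨W, w, h₁, h₂, fun _ => h₃ ⟨t, htW⟩⟩

theorem smoothLocally_open {P : Scheme.{u} → Prop} (h𝒳 : IsAlgStack Scheme.fppfPrecoverage 𝒳) {Q : 𝒳.obj → Prop}
    (hQ : AlgSt.IsOpenSubstack 𝒳 Q Scheme.fppfPrecoverage) (h : AlgSt.SmoothLocally P 𝒳) :
    AlgSt.SmoothLocally P (fullSub 𝒳 Q) := fun U x hx =>
  h U (BasedFunctor.comp x (AlgSt.subIncl 𝒳 Q))
    (with_comp goodP_locP (overCat_isFibGrpd U) hQ.2.1.isStack.1 hx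
      (repByAlgSpWith_mono (fun _ _ _ _ ha => AlgSpace.locP_of_repWith (AlgSp.IsAlgSpace.yon_obj _)
        (AlgSpace.repWith_mono (fun _ _ g (_ : IsOpenImmersion g) => (inferInstance : Smooth g)) ha)) hQ.2.2))

/-- an open piece that is a reduced gerbe, quasi-compact if asked -/
theorem exists_open_piece (h𝒳 : IsAlgStack Scheme.fppfPrecoverage 𝒳)
    (hred : AlgSt.SmoothLocally (fun T => IsReduced T) 𝒳)
    (hI : AlgSt.IsQuasiCompactMor Scheme.fppfPrecoverage (FibCat.inertiaToBase (FibCat.toSelf 𝒳))) (QC : Prop) :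
    ∃ Q : 𝒳.obj → Prop, AlgSt.IsOpenSubstack 𝒳 Q Scheme.fppfPrecoverage ∧
      Gerb.IsAlgGerbe Scheme.fppfPrecoverage (fullSub 𝒳 Q) ∧ (QC → AlgSt.IsQuasiCompact (fullSub 𝒳 Q)) ∧
      (¬ QC → Dense (Set.range (AlgSt.Points.map (AlgSt.subIncl 𝒳 Q)))) ∧
      (Nonempty (Points 𝒳) → (Set.range (AlgSt.Points.map (AlgSt.subIncl 𝒳 Q))).Nonempty) := by
  obtain ⟨Q, hQ, hd, hg⟩ := exists_dense_gerbe h𝒳 hred hI
  by_cases hqc : QC
  swap
  · exact ⟨Q, hQ, hg, fun h => absurd h hqc, fun _ => hd, fun hn => hd.nonempty⟩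
  obtain ⟨W, w, hW, hw, hne⟩ := exists_affine_chart hQ.2.1
  let v := BasedFunctor.comp w (AlgSt.subIncl 𝒳 Q)
  have hv : AlgSt.RepByAlgSpWith (AlgSp.LocP @Smooth) v :=
    with_comp goodP_locP (overCat_isFibGrpd W) hQ.2.1.isStack.1 hw
      (repByAlgSpWith_mono (fun _ _ _ _ ha => AlgSpace.locP_of_repWith (AlgSp.IsAlgSpace.yon_obj _)
        (AlgSpace.repWith_mono (fun _ _ g (_ : IsOpenImmersion g) => (inferInstance : Smooth g)) ha)) hQ.2.2)
  let O := Set.range (Points.ofChart v)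
  have hO : IsOpen O :=
    (isOpenMap_ofChart h𝒳.isStack.1 (with_locP_mono smooth_le_flat hv) (with_locP_mono smooth_le_lfp hv)).isOpen_range
  have hQ' := isOpenSubstack_qsub hO h𝒳
  have hrange := range_map_subIncl_qsub O
  have hmap : Set.range (Points.map v) ⊆ O := fun q ⟨o, ho⟩ => ⟨ptOf o, by
    rw [ofChart_eq, mk_chartPt_ptOf]; exact ho⟩
  have hvQ := fun a => qsub_range_map (overCat_isFibGrpd W) h𝒳.isStack.1 v hmap a
  haveI := hW
  have hqc' : AlgSt.IsQuasiCompact (fullSub 𝒳 (Qsub O)) := by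
    refine ⟨W, liftSub v hvQ, hW, with_liftSub v hvQ hv,
      with_surjective_of_isSurjective (overCat_isFibGrpd W) hQ'.2.1.isStack.1
        (repByAlgSp1_of_with (with_liftSub v hvQ hv)) fun p => ?_⟩
    obtain ⟨t, ht⟩ : Points.map (AlgSt.subIncl 𝒳 (Qsub O)) p ∈ O := hrange.subset ⟨p, rfl⟩
    refine ⟨Points.mk (chartPt W t), injective_map_subIncl h𝒳.isStack.1 (fun φ hb => qsub_of_hom φ hb) ?_⟩
    rw [← StAlg16.map_comp_apply, ← ht]
    rfl
  refine ⟨Qsub O, hQ', ?_, fun _ => hqc', fun h => absurd hqc h, fun hn => ?_⟩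
  · obtain ⟨X, p, hp⟩ := hg
    obtain ⟨f₁, f₂⟩ := locQ_inertia_of_isGerbeOver p hQ.2.1 X.property hp
    have hIQ := isAlgStack_inertia_self hQ.2.1
    have g₁ := (locQ_iff_with isSmoothLocalST_flat GerbAbs.Chart.pbP_locP' isLocalOnBase_fppf_locP_flat hIQ hQ.2.1
      (rep1_inertia hQ.2.1)).1 f₁
    have g₂ := (locQ_iff_with isSmoothLocalST_lfp GerbAbs.Chart.pbP_locP' isLocalOnBase_fppf_locP_lfp hIQ hQ.2.1
      (rep1_inertia hQ.2.1)).1 f₂
    have hle : ∀ a, Qsub O a → Q a := (substack_le_iff h𝒳 hQ' hQ).2 (by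
      rw [hrange]
      rintro q ⟨t, rfl⟩
      exact ⟨Points.ofChart w t, by rw [ofChart_eq, ofChart_eq, StAlg16.map_comp_apply]⟩)
    let Q₂ : (fullSub 𝒳 Q).obj → Prop := fun a => Qsub O a.obj
    let F : fullSub (fullSub 𝒳 Q) Q₂ ⥤ᵇ fullSub 𝒳 (Qsub O) :=
      liftSub (BasedFunctor.comp (AlgSt.subIncl (fullSub 𝒳 Q) Q₂) (AlgSt.subIncl 𝒳 Q)) fun a => a.property
    have hF : FibCat.IsEquivOver F := by
      haveI : F.toFunctor.Faithful := ⟨fun {a b φ ψ} e =>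
        ObjectProperty.hom_ext _ (ObjectProperty.hom_ext _ (congrArg (fun t => t.hom) e))⟩
      haveI : F.toFunctor.Full := ⟨fun {a b} φ => ⟨ObjectProperty.homMk (ObjectProperty.homMk φ.hom), rfl⟩⟩
      exact isEquivOver_of F fun η => ⟨⟨⟨η.obj, hle _ η.property⟩, η.property⟩, Iso.refl _, IsHomLift.id rfl⟩
    obtain ⟨G, hG, -, -⟩ := exists_inverse hF
    have hA₂ : IsAlgStack Scheme.fppfPrecoverage (fullSub (fullSub 𝒳 Q) Q₂) :=
      StAlg.isAlgStack_of_equiv hG hQ'.2.1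
    exact isAlgGerbe_of_equiv hA₂.isStack.1 hF (isAlgGerbe_fullSub hQ.2.1 hA₂ g₁ g₂)
  · obtain ⟨q, p, rfl⟩ := hd.nonempty
    obtain ⟨t⟩ := hne ⟨p⟩
    exact ⟨_, hrange.ge ⟨t, rfl⟩⟩

theorem exists_stratum (h𝒳 : IsAlgStack Scheme.fppfPrecoverage 𝒳)
    (hI : AlgSt.IsQuasiCompactMor Scheme.fppfPrecoverage (FibCat.inertiaToBase (FibCat.toSelf 𝒳))) (QC : Prop)
    (T : Set (Points 𝒳)) (hT : IsClosed T) : ∃ Q, IsStratum QC T Q := by
  obtain ⟨Z, hZ, hrZ, hredZ⟩ := exists_reduced_closedSubstack h𝒳 T hT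
  have hIZ := qc_inertia_fullSub h𝒳 hZ.2.1 hI
  obtain ⟨Q, hQ, hg, hqc, hd, hne⟩ := exists_open_piece hZ.2.1 hredZ hIZ QC
  let j := AlgSt.subIncl (fullSub 𝒳 Z) Q
  let i := AlgSt.subIncl 𝒳 Z
  have hj : AlgSt.IsImm j := repByAlgSpWith_mono (fun _ _ _ _ ha =>
    AlgSpace.repWith_mono (fun _ _ g (_ : IsOpenImmersion g) => (inferInstance : IsImmersion g)) ha) hQ.2.2
  have hi : AlgSt.IsImm i := repByAlgSpWith_mono (fun _ _ _ _ ha =>
    AlgSpace.repWith_mono (fun _ _ g (_ : IsClosedImmersion g) => (inferInstance : IsImmersion g)) ha) hZ.2.2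
  obtain ⟨Q', ⟨hQ', ⟨i', hi', ⟨β⟩⟩, -, -⟩, -⟩ := exists_unique_image hQ.2.1 h𝒳 (BasedFunctor.comp j i)
    (with_comp goodP_imm hQ.2.1.isStack.1 hZ.2.1.isStack.1 hj hi)
  let φ := Points.map i
  let W := Set.range (Points.map j)
  have hr : Set.range (Points.map (AlgSt.subIncl 𝒳 Q')) = φ '' W := by
    have e : Points.map (AlgSt.subIncl 𝒳 Q') ∘ Points.map i' = φ ∘ Points.map j := funext fun q => by
      show Points.map (AlgSt.subIncl 𝒳 Q') (Points.map i' q) = Points.map i (Points.map j q)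
      rw [← StAlg16.map_comp_apply, ← StAlg16.map_comp_apply, map_eq_map_of_iso β]
    rw [← (map_bijective hi').2.range_comp, e, Set.range_comp]
  have hinj : Function.Injective φ :=
    injective_map_subIncl h𝒳.isStack.1 fun m hb => sub_of_hom h𝒳.isStack.1 hZ.1 hZ.2.1.isStack.1 m hb
  have hWo : IsOpen W := isOpen_range_subIncl hZ.2.1 hQ
  refine ⟨Q', hQ', ?_, isAlgGerbe_of_equiv hQ.2.1.isStack.1 hi' hg, fun h => ?_, ?_, ?_, fun h => ?_, fun h => ?_⟩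
  · exact ResGerb16.smoothLocally_of_equiv hi' (smoothLocally_open hZ.2.1 hQ hredZ)
  · obtain ⟨U, x, hU, hx, hxs⟩ := hqc h
    obtain ⟨G, hG, -, -⟩ := exists_inverse hi'
    exact ⟨U, BasedFunctor.comp x i', hU, with_equiv_comp hi' hx, with_equiv_comp hi' hxs⟩
  · rw [hr, ← hrZ]
    exact Set.image_subset_range _ _
  · rw [hr]
    have e : (Subtype.val : T → Points 𝒳) ⁻¹' (φ '' W) = (Subtype.val : T → Points 𝒳) ⁻¹' (φ '' Wᶜ)ᶜ := by
      ext ⟨p, hp⟩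
      obtain ⟨z, rfl⟩ := hrZ.ge hp
      show φ z ∈ φ '' W ↔ φ z ∈ (φ '' Wᶜ)ᶜ
      rw [hinj.mem_set_image, Set.mem_compl_iff, hinj.mem_set_image, Set.mem_compl_iff, not_not]
    rw [e]
    exact ((isClosedMap_of_closedImm hZ.2.1 h𝒳 hZ.2.2 _ hWo.isClosed_compl).isOpen_compl).preimage
      continuous_subtype_val
  · rw [hr]
    intro ⟨p, hp⟩
    obtain ⟨z, rfl⟩ := hrZ.ge hp
    rw [mem_closure_iff]
    rintro O ⟨O', hO', rfl⟩ hz
    obtain ⟨q, hq, hqW⟩ := (hd h).inter_open_nonempty _ (hO'.preimage (continuous_map h𝒳 i)) ⟨z, hz⟩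
    exact ⟨⟨φ q, hrZ.subset ⟨q, rfl⟩⟩, hq, ⟨q, hqW, rfl⟩⟩
  · obtain ⟨p, hp⟩ := h
    obtain ⟨z, -⟩ := hrZ.ge hp
    rw [hr]
    exact (hne ⟨z⟩).image φ

/-- the transfinite iteration -/
theorem exists_stratification (h𝒳 : IsAlgStack Scheme.fppfPrecoverage 𝒳)
    (hI : AlgSt.IsQuasiCompactMor Scheme.fppfPrecoverage (FibCat.inertiaToBase (FibCat.toSelf 𝒳))) (QC : Prop) :
    ∃ (I : Type (u + 1)) (_ : LinearOrder I) (_ : WellFoundedLT I) (Q : I → 𝒳.obj → Prop)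
      (T : I → Set (AlgSt.Points 𝒳)),
      (∀ i, T i = {p | ∀ i', i' < i → p ∉ Set.range (AlgSt.Points.map (AlgSt.subIncl 𝒳 (Q i')))}) ∧
      (∀ i, IsStratum QC (T i) (Q i)) ∧
      (∀ p : AlgSt.Points 𝒳, ∃ i, p ∈ Set.range (AlgSt.Points.map (AlgSt.subIncl 𝒳 (Q i)))) ∧
      ∀ i, IsClosed (T i) := by
  classical
  have h' : ∀ T : Set (Points 𝒳), ∃ Q : 𝒳.obj → Prop, IsClosed T → IsStratum QC T Q := fun T => by
    by_cases hT : IsClosed T
    · obtain ⟨Q, hQ⟩ := exists_stratum h𝒳 hI QC T hT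
      exact ⟨Q, fun _ => hQ⟩
    · exact ⟨fun _ => True, fun h => absurd h hT⟩
  choose q hq using h'
  let I : Type (u + 1) := (Order.succ (Cardinal.mk (Points 𝒳))).ord.ToType
  let r : (Set (Points 𝒳)) → Set (Points 𝒳) := fun T => Set.range (Points.map (AlgSt.subIncl 𝒳 (q T)))
  let T : I → Set (Points 𝒳) := (wellFounded_lt (α := I)).fix
    fun i F => {p | ∀ i' (h : i' < i), p ∉ r (F i' h)}
  have hT : ∀ i, T i = {p | ∀ i', i' < i → p ∉ r (T i')} := fun i => by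
    show T i = _
    simp only [T]
    rw [WellFounded.fix_eq]
  have hcl : ∀ i, IsClosed (T i) := fun i => by
    induction i using (wellFounded_lt (α := I)).induction with
    | _ i ih =>
      have e : T i = ⋂ i' : {j // j < i}, (T i'.1 \ r (T i'.1)) := by
        ext p
        rw [hT i]
        simp only [Set.mem_setOf_eq, Set.mem_iInter, Set.mem_diff, Subtype.forall]
        refine ⟨fun hp j hj => ⟨?_, hp j hj⟩, fun hp j hj => (hp j hj).2⟩
        rw [hT j]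
        exact fun k hk => hp k (hk.trans hj)
      rw [e]
      refine isClosed_iInter fun ⟨j, hj⟩ => ?_
      obtain ⟨O, hO, hO'⟩ := (hq (T j) (ih j hj)).2.2.2.2.2.1
      have e' : T j \ r (T j) = T j ∩ Oᶜ := by
        ext p
        exact and_congr_right fun hp => not_congr (Set.ext_iff.1 hO' ⟨p, hp⟩).symm
      rw [e']
      exact (ih j hj).inter hO.isClosed_compl
  refine ⟨I, inferInstance, inferInstance, fun i => q (T i), T, hT, fun i => hq _ (hcl i), fun p => ?_, hcl⟩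
  by_contra hp
  push Not at hp
  have hmem : ∀ i, p ∈ T i := fun i => by
    rw [hT i]
    exact fun j _ => hp j
  have hne : ∀ i, (r (T i)).Nonempty := fun i => (hq _ (hcl i)).2.2.2.2.2.2.2 ⟨p, hmem i⟩
  choose f hf using hne
  have hinj : Function.Injective f := by
    intro i j e
    by_contra hij
    rcases lt_or_gt_of_ne hij with h | h
    · have := (hq _ (hcl j)).2.2.2.2.1 (hf j)
      rw [hT j] at this
      exact this i h (e ▸ hf i)
    · have := (hq _ (hcl i)).2.2.2.2.1 (hf i)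
      rw [hT i] at this
      exact this j h (e.symm ▸ hf j)
  have := Cardinal.mk_le_of_injective hinj
  rw [Cardinal.mk_toType, Cardinal.card_ord] at this
  exact absurd this (not_le.2 (Order.lt_succ _))

end Groth.Agent.AlgGerbe16
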