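import Groth.Agent.Lib.ResGerb16.Existence
import Groth.Agent.Lib.AlgGerbe16.OnePoint
import Groth.Agent.Lib.AlgGerbe16.Strata
import Groth.Agent.S16869
import Mathlib.AlgebraicGeometry.Morphisms.QuasiFinite

/-! Residual gerbes from locally quasi-finite maps of schemes; existence for quasi-compact inertia. -/

universe u

open CategoryTheory CategoryTheory.Functor CategoryTheory.Limits AlgebraicGeometry Opposite

set_option linter.style.haveILetI false
set_option linter.unusedSectionVars false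
set_option backward.isDefEq.respectTransparency false
set_option backward.isDefEq.respectTransparency.types false

namespace Groth.Agent.AlgGerbe16

open Groth.Agent.FC16 hiding overMap
open Groth.Agent.StAlg Groth.Agent.StAlg16 AlgSt

variable {S : Scheme.{u}} {𝒳 : AlgSt.Cat S}

/-- a point whose preimage is locally closed pulls back to a morphism of finite type -/
theorem lft_pullback_point {A U : Scheme.{u}} (g : A ⟶ U) (u : U) (h : IsLocallyClosed (g ⁻¹' {u})) :
    LocallyOfFiniteType (pullback.fst g (U.fromSpecResidueField u)) := by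
  haveI : IsImmersion (pullback.fst g (U.fromSpecResidueField u)) :=
    { isLocallyClosed_range := by
        rw [Scheme.Pullback.range_fst, U.range_fromSpecResidueField]
        exact h }
  infer_instance

/-- the residual gerbe at the image of a point of a chart whose preimages in orbits are locally closed -/
theorem resGerbeExists_of_preimage (h𝒳 : IsAlgStack Scheme.fppfPrecoverage 𝒳) {U : Over S}
    (c : FibCat.overCat U ⥤ᵇ 𝒳) (Q : MorphismProperty Scheme.{u}) [AlgSpace.EtaleLocal Q] [Q.IsStableUnderComposition]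
    (hq : AlgSt.RepByAlgSpWith (AlgSp.LocP Q) c)
    (hl : AlgSt.RepByAlgSpWith (AlgSp.LocP @LocallyOfFiniteType) c) (u : ↥U.left)
    (hpre : ∀ {A : Scheme.{u}} (h : A ⟶ Spec (CommRingCat.of (U.left.residueField u))) (g : A ⟶ U.left), Q h →
      (∀ q, Points.ofChart c (g q) = Points.ofChart c u) → IsLocallyClosed (g ⁻¹' {u})) :
    Gerb.ResGerbeExists Scheme.fppfPrecoverage 𝒳 (Points.ofChart c u) := by
  have gX := h𝒳.isStack.1
  let b : Spec (CommRingCat.of (U.left.residueField u)) ⟶ S := U.left.fromSpecResidueField u ≫ U.hom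
  let K : Over S := Over.mk b
  let i : K ⟶ U := Over.homMk (U.left.fromSpecResidueField u) rfl
  let i' := AlgSt.overMap i
  let z := BasedFunctor.comp i' c
  let a := FibCat.fpFst z c
  let s := FibCat.fpSnd z c
  have hB : IsAlgStack Scheme.fppfPrecoverage (FibCat.fp z c) :=
    StAlg.isAlgStack_fp h𝒳.isStack h𝒳.diag (isAlgStack_overCat K) (isAlgStack_overCat U) z c
  have hrep : AlgSt.RepByAlgSp1 c := repByAlgSp1_of_with hl
  obtain ⟨A, d, hd, hds⟩ := exists_fp_chart gX z hrep
  obtain ⟨h, ⟨jh⟩⟩ := exists_overMap_iso (BasedFunctor.comp d a)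
  obtain ⟨g, ⟨jg⟩⟩ := exists_overMap_iso (BasedFunctor.comp d s)
  have hQ : Q h.left := by
    refine of_with_locP_overMap h (with_of_iso jh (with_comp goodP_locP (overCat_isFibGrpd A) hB.isStack.1 ?_
      (with_fpFst z hq)))
    exact hd Q
  have hP : LocallyOfFiniteType (pullback.fst g i).left := by
    have sq := (IsPullback.of_hasPullback g i).map (Over.forget S)
    let e := sq.isoIsPullback _ _ (IsPullback.of_hasPullback g.left i.left)
    have he : e.hom ≫ pullback.fst g.left i.left = (pullback.fst g i).left := sq.isoIsPullback_hom_fst _ _ _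
    haveI : LocallyOfFiniteType (pullback.fst g.left i.left) := by
      refine lft_pullback_point g.left u (hpre h.left g.left hQ fun q => ?_)
      have j₀ : BasedFunctor.comp (AlgSt.overMap g) c ≅ BasedFunctor.comp (AlgSt.overMap h) z :=
        wrIso jg.symm c ≪≫ wlIso d (FibCat.fpIso z c).symm ≪≫ wrIso jh z
      rw [← ofChart_overMap g c q, ofChart_congr j₀, ofChart_overMap]
      show Points.ofChart (BasedFunctor.comp (AlgSt.overMap i) c) _ = _
      rw [ofChart_overMap]
      exact congrArg (Points.ofChart c) (U.left.fromSpecResidueField_apply u _)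
    rw [← he]
    infer_instance
  haveI := idFun_full (𝒳 := FibCat.overCat U)
  haveI := idFun_faithful (𝒳 := FibCat.overCat U)
  let E : FibCat.overCat (pullback g i) ⥤ᵇ FibCat.fp (BasedFunctor.comp d s) i' :=
    BasedFunctor.comp (overPullback (pullback.condition (f := g) (g := i)))
      (fpMap (F := AlgSt.overMap g) (G := i') (F' := BasedFunctor.comp d s) (G' := i')
        (a := BasedFunctor.id _) (b := BasedFunctor.id _) (s := BasedFunctor.id _) jg (Iso.refl _))
  have hE : FibCat.IsEquivOver E := isEquivOver_comp (overPullback_isEquivOver (IsPullback.of_hasPullback g i))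
    (fpMap_isEquivOver _ _ isEquivOver_id isEquivOver_id)
  have h1 : AlgSt.RepByAlgSpWith (AlgSp.LocP @LocallyOfFiniteType) (FibCat.fpFst (BasedFunctor.comp d s) i') :=
    (with_congr (f := FibCat.fpFst (BasedFunctor.comp d s) i') (f' := AlgSt.overMap (pullback.fst g i))
      (a := E) (b := BasedFunctor.id _) hE isEquivOver_id (Iso.refl _)).2 (with_locP_overMap _ hP)
  have h2 : AlgSt.RepByAlgSpWith (AlgSp.LocP @LocallyOfFiniteType) (FibCat.fpFst d (FibCat.fpFst s i')) :=
    (with_congr (f := FibCat.fpFst (BasedFunctor.comp d s) i') (f' := FibCat.fpFst d (FibCat.fpFst s i'))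
      (a := pasteL d s i') (b := BasedFunctor.id _) (pasteL_isEquivOver _ _ _) isEquivOver_id (Iso.refl _)).1 h1
  have gC := fp_isFibGrpd hB.isStack.1 (overCat_isFibGrpd K) (overCat_isFibGrpd U) s i'
  have hrep' : AlgSt.RepByAlgSp1 (FibCat.fpFst s i') :=
    rep1_fpFst s (rep1_of_rep (rep_overCat K) (rep_overCat U) i')
  have h3 : AlgSt.RepByAlgSpWith (AlgSp.LocP @LocallyOfFiniteType) (FibCat.fpFst s i') :=
    with_of_fpFst_cover GerbAbs.Chart.pbP_locP' StAlg.isLocalOnBase_fppf_locP_lft gC hB.isStack.1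
      (overCat_isFibGrpd A) hrep' (hd @Flat) (hd @LocallyOfFinitePresentation) hds h2
  have hzz : AlgSt.RepByAlgSpWith (AlgSp.LocP @LocallyOfFiniteType) (FibCat.fpFst z z) :=
    (with_congr (f := FibCat.fpFst z z) (f' := BasedFunctor.comp (FibCat.fpFst s i') a)
      (a := pasteR z c i') (b := BasedFunctor.id _) (pasteR_isEquivOver _ _ _) isEquivOver_id (Iso.refl _)).2
      (with_comp goodP_locP gC hB.isStack.1 h3 (with_fpFst z hl))
  have gzz := fp_isFibGrpd (overCat_isFibGrpd K) (overCat_isFibGrpd K) gX z z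
  have hsub : Subsingleton ↥K.left := ResGerb16.subsingleton_left b
  have hzs : AlgSt.RepByAlgSpWith AlgSp.IsSurjectiveMor (FibCat.fpFst z z) :=
    with_surjective_of_isSurjective gzz (overCat_isFibGrpd K) (repByAlgSp1_of_with hzz) fun q => by
      obtain ⟨w, hw, -⟩ := exists_fp_point (overCat_isFibGrpd K) gX (overCat_isFibGrpd K) z z q q rfl
      exact ⟨w, hw⟩
  have hzf := with_flat_field gzz hzz
  have hzp := ResGerb16.with_lfp_of_lft gzz hzz
  have hA := ResGerb16.isAlgStack_locIm h𝒳 z hzs hzf hzp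
  obtain ⟨t₁, -, -⟩ := ResGerb16.triple_toLocIm h𝒳 z hzs hzf hzp
  obtain ⟨hne, hss⟩ := ResGerb16.singleton_points (a := b) hA (ResGerb16.toLocIm z (overCat_isFibGrpd K)) t₁
  refine ⟨fullSub 𝒳 (ResGerb16.LocIm z), AlgSt.subIncl 𝒳 _, hA, ResGerb16.isMono_subIncl h𝒳 hA, hne, hss,
    fun w => ?_⟩
  obtain ⟨t, rfl⟩ := surjective_ofChart hA.isStack.1 t₁ w
  rw [ofChart_eq, ← StAlg16.map_comp_apply]
  show Points.ofChart (BasedFunctor.comp (AlgSt.overMap i) c) t = _
  rw [ofChart_overMap]
  refine congrArg (Points.ofChart c) ?_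
  show U.left.fromSpecResidueField u t = u
  exact U.left.fromSpecResidueField_apply u t

/-- a point reached by a locally quasi-finite map from a scheme has a residual gerbe -/
theorem resGerbeExists_of_lqf (h𝒳 : IsAlgStack Scheme.fppfPrecoverage 𝒳) {U : Over S}
    (c : FibCat.overCat U ⥤ᵇ 𝒳)
    (hq : AlgSt.RepByAlgSpWith (AlgSp.LocP @LocallyQuasiFinite) c)
    (hl : AlgSt.RepByAlgSpWith (AlgSp.LocP @LocallyOfFiniteType) c) (u : ↥U.left) :
    Gerb.ResGerbeExists Scheme.fppfPrecoverage 𝒳 (Points.ofChart c u) :=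
  resGerbeExists_of_preimage h𝒳 c @LocallyQuasiFinite hq hl u fun {A} h g (hh : LocallyQuasiFinite h) _ => by
    haveI := hh
    haveI : IsLocallyArtinian A := IsLocallyArtinian.of_locallyQuasiFinite h
    haveI : DiscreteTopology A := inferInstance
    exact (isOpen_discrete _).isLocallyClosed

/-- every point of a locally noetherian stack has a residual gerbe -/
theorem resGerbeExists_of_locallyNoetherian (h𝒳 : IsAlgStack Scheme.fppfPrecoverage 𝒳)
    (hN : AlgSt.SmoothLocally (fun T => IsLocallyNoetherian T) 𝒳) (x : Points 𝒳) :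
    Gerb.ResGerbeExists Scheme.fppfPrecoverage 𝒳 x := by
  obtain ⟨U, c, hc, hcs⟩ := h𝒳.atlas
  haveI := hN U c hc
  obtain ⟨t, ht⟩ := surjective_ofChart h𝒳.isStack.1 hcs x
  obtain ⟨W, hW, htW, -⟩ := exists_isAffineOpen_mem_and_subset (X := U.left) (x := t) (U := ⊤) trivial
  haveI : IsAffine W.toScheme := hW
  haveI : IsNoetherian W.toScheme := ⟨⟩
  let F : Set (TopologicalSpace.Closeds W.toScheme) :=
    {C | ∃ v : W.toScheme, Points.ofChart c (W.ι v) = x ∧ C = .closure {v}}
  obtain ⟨C, ⟨v, hv, rfl⟩, hmin⟩ :=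
    (wellFounded_lt (α := TopologicalSpace.Closeds W.toScheme)).has_min F ⟨_, ⟨t, htW⟩, ht, rfl⟩
  rw [← hv]
  refine resGerbeExists_of_preimage h𝒳 c @LocallyOfFiniteType (with_locP_mono StAlg.smooth_le_lft hc)
    (with_locP_mono StAlg.smooth_le_lft hc) (W.ι v) fun {A} h g _ hg => ?_
  have e : g ⁻¹' {W.ι v} = g ⁻¹' (W : Set U.left) ∩ g ⁻¹' closure {W.ι v} := by
    ext q
    constructor
    · intro hq
      rw [Set.mem_preimage, Set.mem_singleton_iff] at hq
      exact ⟨by rw [Set.mem_preimage, hq]; exact v.2, by rw [Set.mem_preimage, hq]; exact subset_closure rfl⟩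
    · rintro ⟨hqW, hqc⟩
      let w : W.toScheme := ⟨g q, hqW⟩
      have hw : w ∈ closure {v} := by
        rw [W.ι.isEmbedding.closure_eq_preimage_closure_image, Set.image_singleton]
        exact hqc
      have hw' : Points.ofChart c (W.ι w) = x := (hg q).trans hv
      have h1 : TopologicalSpace.Closeds.closure {w} ≤ TopologicalSpace.Closeds.closure {v} :=
        closure_minimal (Set.singleton_subset_iff.2 hw) isClosed_closure
      have h2 : TopologicalSpace.Closeds.closure {w} = TopologicalSpace.Closeds.closure {v} :=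
        h1.eq_or_lt.resolve_right (hmin _ ⟨w, hw', rfl⟩)
      have h3 : closure ({w} : Set W.toScheme) = closure {v} := congrArg SetLike.coe h2
      have h4 : w = v := (inseparable_iff_closure_eq.2 h3).eq
      exact congrArg W.ι h4
  rw [e]
  exact (W.2.preimage g.continuous).isLocallyClosed.inter (isClosed_closure.preimage g.continuous).isLocallyClosed

/-- points of algebraic spaces have residual spaces -/
theorem resGerbeExists_ofSp {X : AlgSp.Sp S} (hX : AlgSp.IsAlgSpace X) (y : Points (AlgSt.ofSp X)) :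
    Gerb.ResGerbeExists Scheme.fppfPrecoverage (AlgSt.ofSp X) y := by
  obtain ⟨V, v, hve, hvs⟩ := hX.atlas
  let c : FibCat.overCat V ⥤ᵇ AlgSt.ofSp X := BasedFunctor.comp (AlgSt.ofOverCat V) (AlgSt.ofSpMap v)
  have key : ∀ {Q : MorphismProperty Scheme.{u}} [AlgSpace.EtaleLocal Q],
      AlgSt.RepByAlgSpWith (AlgSp.LocP Q) c := fun {Q} _ =>
    StAlg.with_yon (P := @Etale) (fun _ _ _ h => AlgSpace.locP_of_repWith (AlgSp.IsAlgSpace.yon_obj _)
      (AlgSpace.repWith_mono (fun _ _ g hg => AlgSpace.EtaleLocal.etale_le (P := Q) _ _ g hg) h)) hve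
  have hs : AlgSt.RepByAlgSpWith AlgSp.IsSurjectiveMor c :=
    StAlg.with_yon (P := @Surjective) (fun _ _ _ h => AlgSpace.surjective_map_of_repWith h) hvs
  obtain ⟨t, rfl⟩ := surjective_ofChart (isAlgStack_ofSp hX).isStack.1 hs y
  exact resGerbeExists_of_lqf (isAlgStack_ofSp hX) c key key t

/-- gerbes over spaces have residual gerbes, and so do stacks through their locally closed substacks -/
theorem resGerbeExists_of_qc_inertia (h𝒳 : IsAlgStack Scheme.fppfPrecoverage 𝒳)
    (hI : AlgSt.IsQuasiCompactMor Scheme.fppfPrecoverage (FibCat.inertiaToBase (FibCat.toSelf 𝒳)))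
    (x : Points 𝒳) : Gerb.ResGerbeExists Scheme.fppfPrecoverage 𝒳 x := by
  obtain ⟨I, _, _, Q, T, -, hs, hcov, -⟩ := exists_stratification h𝒳 hI False
  obtain ⟨n, p, rfl⟩ := hcov x
  obtain ⟨⟨X, π, hπ⟩, hQ⟩ : Gerb.IsAlgGerbe Scheme.fppfPrecoverage (fullSub 𝒳 (Q n)) ∧
      AlgSt.IsLocClosedSubstack 𝒳 (Q n) Scheme.fppfPrecoverage := ⟨(hs n).2.2.1, (hs n).1⟩
  have hM := isAlgStack_ofSp X.property
  obtain ⟨𝒵, j, h𝒵, hj, ⟨z⟩, hss, hz⟩ := resGerbeExists_ofSp X.property (Points.map π p)
  have hW := StAlg.isAlgStack_fp hM.isStack hM.diag h𝒵 hQ.2.1 j π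
  obtain ⟨w, -, hw⟩ := exists_fp_point hQ.2.1.isStack.1 hM.isStack.1 h𝒵.isStack.1 π j z p (hz z)
  have hbij := (Groth.Agent.S16869.result S _ _ hQ.2.1 hM π hπ 𝒵 h𝒵 j).bijective
  haveI := hss
  have hone : Subsingleton (Points (FibCat.fp j π)) := ⟨fun a b => hbij.1 (Subsingleton.elim _ _)⟩
  refine ⟨FibCat.fp j π, BasedFunctor.comp (FibCat.fpSnd j π) (AlgSt.subIncl 𝒳 (Q n)), hW,
    with_comp StAlg.goodP_mono hW.isStack.1 hQ.2.1.isStack.1 (with_fpSnd π hj) (isMono_of_isImm hQ.2.2),
    ⟨w⟩, hone, fun a => ?_⟩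
  rw [StAlg16.map_comp_apply, Subsingleton.elim a w, hw]

end Groth.Agent.AlgGerbe16
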